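import Cfsg.Agent.Lib.SuzukiUnique.Identity
import Cfsg.Agent.Lib.Sz.Aut

/-!
# Charts of groups of Suzuki type

A chart describes a group as permutations of `F × F` and one further point.  The structure identity
makes two charts with the same automorphism and parameter give isomorphic groups; the Suzuki group
has such a chart.
-/

set_option autoImplicit false
set_option linter.unusedSectionVars false

namespace Cfsg.Agent.SuzukiUnique

open Cfsg Matrix

variable {F : Type*} [Field F] [Finite F] [CharP F 2]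

/-- Where the swap sends the finite non-zero points determines `Data`. -/
theorem data_of_perm {φ : F ≃+* F} {b κ : F} {π : F × F → F × F}
    (hinj : Function.Injective (nrm φ)) (hκ : κ ≠ 0) (hne : ∀ u ≠ 0, π u ≠ 0)
    (t : F × F → Equiv.Perm (Option (F × F))) (ht : ∀ v u, t v (some u) = some (op φ v u))
    (wp : Equiv.Perm (Option (F × F))) (hw : ∀ u ≠ 0, wp (some u) = some (π u))
    (hww : wp * wp = 1)
    (hscale : ∀ u ≠ 0, ∀ c ≠ 0,
      π (c * u.1, nrm φ c * u.2) = (c⁻¹ * (π u).1, (nrm φ c)⁻¹ * (π u).2))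
    (hfix : π (1, b) = (1, b)) (hz : π (0, κ) = (1, b + 1))
    (hrel : wp * t (0, κ) * wp = t (1, b + 1) * wp * t (1, b)) : Data φ b κ π := by
  have h2 := CharTwo.two_eq_zero (R := F)
  have hinvol : ∀ u ≠ 0, π (π u) = u := fun u hu => by
    have h1 := congrArg (fun g : Equiv.Perm (Option (F × F)) => g (some u)) hww
    simp only [Equiv.Perm.mul_apply, Equiv.Perm.one_apply, hw u hu, hw _ (hne u hu)] at h1
    exact Option.some.inj h1
  refine ⟨hinj, hκ, hne, hinvol, hscale, hfix, hz, fun u hu hu1 => ?_⟩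
  have h1 := congrArg (fun g : Equiv.Perm (Option (F × F)) => g (some u)) hrel
  simp only [Equiv.Perm.mul_apply, hw u hu, ht] at h1
  have hne1 : op φ (0, κ) (π u) ≠ 0 := by
    intro e
    simp only [op, map_zero, zero_mul, add_zero, zero_add, Prod.mk_eq_zero] at e
    have hu' : π u = (0, κ) := Prod.ext e.1 (by linear_combination e.2 - κ * h2)
    exact hu1 (by rw [← hinvol u hu, hu', hz])
  have hne2 : op φ (1, b) u ≠ 0 := by
    intro e
    simp only [op, map_one, one_mul, Prod.mk_eq_zero] at e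
    have hx : u.1 = 1 := by linear_combination e.1 - h2
    refine hu1 (Prod.ext hx ?_)
    rw [hx] at e
    linear_combination e.2 - (b + 1) * h2
  rw [hw _ hne1, hw _ hne2, ht] at h1
  rw [show ((π u).1, (π u).2 + κ) = op φ (0, κ) (π u) by simp [op, add_comm]]
  exact Option.some.inj h1

/-- A chart of a group of Suzuki type. -/
structure Chart (φ : F ≃+* F) (b : F) (G : Type*) [Group G] where
  /-- the permutation representation -/
  ι : G →* Equiv.Perm (Option (F × F))
  inj : Function.Injective ι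
  /-- the translations -/
  tr : F × F → G
  /-- the dilations -/
  hd : Fˣ → G
  /-- the swap -/
  w : G
  /-- the swap on finite non-zero points -/
  π : F × F → F × F
  /-- the parameter of the involution -/
  κ : F
  data : Data φ b κ π
  tr_none : ∀ v, ι (tr v) none = none
  tr_some : ∀ v u, ι (tr v) (some u) = some (op φ v u)
  hd_none : ∀ c, ι (hd c) none = none
  hd_some : ∀ (c : Fˣ) u, ι (hd c) (some u) = some ((c : F) * u.1, nrm φ c * u.2)
  w_none : ι w none = some 0
  w_zero : ι w (some 0) = none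
  w_some : ∀ u ≠ 0, ι w (some u) = some (π u)
  gen : Subgroup.closure (Set.range tr ∪ Set.range hd ∪ {w}) = ⊤

/-- Two groups with charts for the same parameters are isomorphic. -/
theorem Chart.nonempty_mulEquiv {φ : F ≃+* F} {b : F} {G H : Type*} [Group G] [Group H]
    (C : Chart φ b G) (D : Chart φ b H) : Nonempty (G ≃* H) := by
  have e1 : ∀ v, C.ι (C.tr v) = D.ι (D.tr v) := fun v => Equiv.ext fun o => by
    cases o with
    | none => rw [C.tr_none, D.tr_none]
    | some u => rw [C.tr_some, D.tr_some]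
  have e2 : ∀ c, C.ι (C.hd c) = D.ι (D.hd c) := fun c => Equiv.ext fun o => by
    cases o with
    | none => rw [C.hd_none, D.hd_none]
    | some u => rw [C.hd_some, D.hd_some]
  have e3 : C.ι C.w = D.ι D.w := Equiv.ext fun o => by
    cases o with
    | none => rw [C.w_none, D.w_none]
    | some u =>
      rcases eq_or_ne u 0 with rfl | hu
      · rw [C.w_zero, D.w_zero]
      · rw [C.w_some u hu, D.w_some u hu, C.data.unique D.data hu]
  have h : C.ι.range = D.ι.range := by
    rw [MonoidHom.range_eq_map, MonoidHom.range_eq_map, ← C.gen, ← D.gen, MonoidHom.map_closure,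
      MonoidHom.map_closure, Set.image_union, Set.image_union, Set.image_union, Set.image_union,
      Set.image_singleton, Set.image_singleton, ← Set.range_comp, ← Set.range_comp, ← Set.range_comp,
      ← Set.range_comp, show ⇑C.ι ∘ C.tr = ⇑D.ι ∘ D.tr from funext e1,
      show ⇑C.ι ∘ C.hd = ⇑D.ι ∘ D.hd from funext e2, e3]
  exact ⟨((MonoidHom.ofInjective C.inj).trans (MulEquiv.subgroupCongr h)).trans
    (MonoidHom.ofInjective D.inj).symm⟩

omit [Finite F] [CharP F 2] in
/-- An automorphism of the field with `2 ^ (2 m + 1)` elements with square `x ↦ x ^ 2`. -/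
theorem eq_th [Fintype F] {m : ℕ} (hF : Fintype.card F = 2 ^ (2 * m + 1)) (φ : F ≃+* F)
    (hφ : ∀ x, φ (φ x) = x ^ 2) (x : F) : φ x = SZ.th m x := by
  have hj : ∀ j x, (φ ^ (2 * j) : RingAut F) x = x ^ 2 ^ j := by
    intro j
    induction j with
    | zero => simp
    | succ j ih =>
      intro x
      rw [Nat.mul_succ, pow_add, pow_two, RingAut.mul_apply, RingAut.mul_apply, hφ, ih, ← pow_mul,
        pow_succ, mul_comm]
  have hn : (φ : RingAut F) ^ (2 * m + 1) = 1 := by
    rw [← SZ.card_ringAut hF]; exact pow_card_eq_one'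
  have h := hj (m + 1) x
  rw [show 2 * (m + 1) = 1 + (2 * m + 1) by ring, pow_add, hn, mul_one, pow_one] at h
  exact h

section Model

variable [Fintype F] {m : ℕ}

omit [Finite F] [CharP F 2] [Fintype F] in
theorem W_rel (a b : F) (h2 : (2 : F) = 0) (hb : b = 1) (ha : a = 0) :
    (SZ.W : SpecialLinearGroup (Fin 4) F) * SZ.T m a b * SZ.W =
      SZ.T m 1 0 * SZ.W * SZ.T m 1 1 := by
  subst hb ha
  apply SZ.sl_ext
  simp only [SZ.val_mul]
  ext i j
  fin_cases i <;> fin_cases j <;>
    simp [SZ.W, SZ.wMat, SZ.T, SZ.tMat, SZ.zf, SZ.th, Matrix.mul_apply, Fin.sum_univ_four] <;>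
    first
      | linear_combination -h2
      | linear_combination h2
      | linear_combination (-2 : F) * h2
      | linear_combination (-3 : F) * h2

/-- The Suzuki group has a chart. -/
theorem model_chart (hm : 1 ≤ m) (hF : Fintype.card F = 2 ^ (2 * m + 1)) (φ : F ≃+* F)
    (hφ : ∀ x, φ (φ x) = x ^ 2) : Nonempty (Chart φ 1 (Sz F m)) := by
  classical
  have h2 := CharTwo.two_eq_zero (R := F)
  have hθ : ∀ x, φ x = SZ.th m x := eq_th hF φ hφ
  let e : Option (F × F) ≃ suzukiOvoid F m := Equiv.ofBijective _ SZ.ovoid_param_bijective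
  let act : Sz F m →* Equiv.Perm (suzukiOvoid F m) :=
    { toFun := fun g =>
        { toFun := fun p => ⟨g.1 • p.1, SZ.smul_mem g.2 p.2⟩
          invFun := fun p => ⟨g.1⁻¹ • p.1, SZ.smul_mem (inv_mem g.2) p.2⟩
          left_inv := fun p => Subtype.ext (inv_smul_smul _ _)
          right_inv := fun p => Subtype.ext (smul_inv_smul _ _) }
      map_one' := Equiv.ext fun p => Subtype.ext (one_smul _ _)
      map_mul' := fun g h => Equiv.ext fun p => Subtype.ext (mul_smul _ _ _) }
  let ι : Sz F m →* Equiv.Perm (Option (F × F)) := e.symm.permCongrHom.toMonoidHom.comp act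
  have hι : ∀ (g : Sz F m) o p, g.1 • (e o : Projectivization F (Fin 4 → F)) =
      (e p : Projectivization F (Fin 4 → F)) → ι g o = p := by
    intro g o p h
    show e.symm (act g (e o)) = p
    rw [Equiv.symm_apply_eq]
    exact Subtype.ext h
  let wS : Sz F m := ⟨SZ.W, SZ.W_mem hF⟩
  let tS : F × F → Sz F m := fun v => ⟨SZ.T m v.1 v.2, SZ.T_mem hF _ _⟩
  let hS : Fˣ → Sz F m := fun c =>
    ⟨SZ.H m (Units.map (φ.symm : F →* F) (Units.mk0 (nrm φ c) (mt nrm_eq_zero.1 c.ne_zero))),
      SZ.H_mem hF _⟩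
  have htsome : ∀ v u, ι (tS v) (some u) = some (op φ v u) := fun v u => hι _ _ _ (by
    show SZ.T m v.1 v.2 • SZ.aff m u.1 u.2 = SZ.aff m (v.1 + u.1) (v.2 + u.2 + φ v.1 * u.1)
    rw [SZ.T_smul_aff hF, hθ, add_comm u.1, add_comm u.2])
  let π : F × F → F × F := fun u => (u.2 / SZ.zf m u.1 u.2, u.1 / SZ.zf m u.1 u.2)
  have hzf : ∀ u : F × F, u ≠ 0 → SZ.zf m u.1 u.2 ≠ 0 := fun u hu h =>
    hu (Prod.ext (SZ.zf_eq_zero hF h).1 (SZ.zf_eq_zero hF h).2)
  have hwsome : ∀ u ≠ 0, ι wS (some u) = some (π u) := fun u hu => hι _ _ _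
    (SZ.W_smul_aff hF _ _ (hzf u hu))
  have hw0 : ι wS (some 0) = none := hι _ _ _ (by
    show SZ.W • SZ.aff m (0 : F) 0 = suzukiPointInfinity F
    rw [← SZ.zero_eq_aff, SZ.W_smul_zero])
  have hwn : ι wS none = some 0 := hι _ _ _ (by
    show SZ.W • suzukiPointInfinity F = SZ.aff m (0 : F) 0
    rw [← SZ.zero_eq_aff, SZ.W_smul_inf])
  have hne : ∀ u ≠ 0, π u ≠ 0 := fun u hu h => hu (by
    simp only [π, Prod.mk_eq_zero, div_eq_zero_iff, hzf u hu, or_false] at h
    exact Prod.ext h.2 h.1)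
  have hinj : Function.Injective (nrm φ) := by
    intro x y h
    rcases eq_or_ne y 0 with rfl | hy
    · rwa [nrm_zero, nrm_eq_zero] at h
    have h1 : nrm φ (x / y) = 1 := by
      rw [div_eq_mul_inv, nrm_mul, nrm_inv, h, mul_inv_cancel₀ (mt nrm_eq_zero.1 hy)]
    set r := x / y
    have hr : r ≠ 0 := fun e => zero_ne_one (α := F) (by rw [← h1, e, nrm_zero])
    have h3 : φ r = r⁻¹ := eq_inv_of_mul_eq_one_right h1
    have h4 := hφ r
    rw [h3, map_inv₀, h3, inv_inv] at h4
    have : r = 1 := mul_left_cancel₀ hr (by linear_combination -h4)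
    exact (div_eq_one_iff_eq hy).1 this
  have hdata : Data φ 1 1 π := by
    refine data_of_perm hinj one_ne_zero hne (fun v => ι (tS v)) htsome (ι wS) hwsome ?_ ?_ ?_ ?_ ?_
    · rw [← map_mul, show wS * wS = 1 from Subtype.ext SZ.W_mul_W, map_one]
    · intro u hu c hc
      have hz := hzf u hu
      have hφc : φ c ≠ 0 := (map_ne_zero φ).2 hc
      have hzc : SZ.zf m (c * u.1) (nrm φ c * u.2) = c ^ 2 * φ c * SZ.zf m u.1 u.2 := by
        simp only [SZ.zf, nrm, ← hθ, map_mul, hφ]
        ring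
      simp only [π]
      rw [hzc]
      simp only [nrm]
      ext <;> field_simp
    · simp [π, SZ.zf, SZ.th, show (1 : F) + 1 = 0 by linear_combination h2]
    · simp [π, SZ.zf, SZ.th, show (1 : F) + 1 = 0 by linear_combination h2]
    · rw [← map_mul, ← map_mul, ← map_mul, ← map_mul]
      congr 1
      refine Subtype.ext ?_
      show SZ.W * SZ.T m 0 1 * SZ.W = SZ.T m 1 (1 + 1) * SZ.W * SZ.T m 1 1
      rw [show (1 : F) + 1 = 0 by linear_combination h2]
      exact W_rel 0 1 h2 rfl rfl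
  have hsimple := SZ.isSimple hm hF
  have hιinj : Function.Injective ι := by
    rw [← MonoidHom.ker_eq_bot_iff]
    refine (IsSimpleGroup.eq_bot_or_eq_top_of_normal ι.ker inferInstance).resolve_right fun h => ?_
    have h1 : ι wS = 1 := MonoidHom.mem_ker.1 (h.symm ▸ Subgroup.mem_top wS)
    rw [h1, Equiv.Perm.one_apply] at hw0
    exact Option.some_ne_none _ hw0
  refine ⟨⟨ι, hιinj, tS, hS, wS, π, 1, hdata, fun v => hι _ _ _ (SZ.T_smul_inf _ _), htsome,
    fun c => hι _ _ _ (SZ.H_smul_inf _), fun c u => hι _ _ _ ?_, hwn, hw0, hwsome, ?_⟩⟩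
  · have hc : (c : F) ≠ 0 := c.ne_zero
    have hφc : φ (c : F) ≠ 0 := (map_ne_zero φ).2 hc
    show SZ.H m _ • SZ.aff m u.1 u.2 = SZ.aff m ((c : F) * u.1) (nrm φ c * u.2)
    rw [SZ.H_smul_aff hF, Units.coe_map, Units.val_mk0, ← hθ]
    simp only [MonoidHom.coe_coe, RingEquiv.apply_symm_apply]
    congr 1
    have : φ.symm (nrm φ (c : F)) ^ 2 = φ (nrm φ (c : F)) := by
      rw [← hφ, RingEquiv.apply_symm_apply]
    rw [this, nrm, map_mul, hφ]
    field_simp
  · rw [eq_top_iff]
    intro g _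
    set S := Set.range tS ∪ Set.range hS ∪ {wS}
    have ht : ∀ a b, ∀ h : SZ.T m a b ∈ Sz F m, (⟨_, h⟩ : Sz F m) ∈ Subgroup.closure S :=
      fun a b _ => Subgroup.subset_closure (Or.inl (Or.inl ⟨(a, b), rfl⟩))
    have hh : ∀ u : Fˣ, ∀ h : SZ.H m u ∈ Sz F m, (⟨_, h⟩ : Sz F m) ∈ Subgroup.closure S := by
      intro u _
      refine Subgroup.subset_closure (Or.inl (Or.inr
        ⟨Units.mk0 ((u : F) ^ 2 / φ u) (div_ne_zero (pow_ne_zero _ u.ne_zero) (by simp)), ?_⟩))
      refine Subtype.ext (congrArg (SZ.H m) (Units.ext ?_))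
      have hu : φ (u : F) ≠ 0 := by simp
      simp only [Units.coe_map, Units.val_mk0, nrm, map_div₀, map_pow, hφ]
      show φ.symm _ = (u : F)
      rw [RingEquiv.symm_apply_eq]
      field_simp
    have hwmem : wS ∈ Subgroup.closure S := Subgroup.subset_closure (Or.inr rfl)
    rcases SZ.bruhat hm hF g.2 with ⟨a, b, u, hg⟩ | ⟨a, b, c, d, u, hg⟩
    · rw [show g = ⟨_, SZ.T_mem hF a b⟩ * ⟨_, SZ.H_mem hF u⟩ from Subtype.ext hg]
      exact mul_mem (ht _ _ _) (hh _ _)
    · rw [show g = ⟨_, SZ.T_mem hF a b⟩ * wS *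
        (⟨_, SZ.T_mem hF c d⟩ * ⟨_, SZ.H_mem hF u⟩) from Subtype.ext hg]
      exact mul_mem (mul_mem (ht _ _ _) hwmem) (mul_mem (ht _ _ _) (hh _ _))

end Model

end Cfsg.Agent.SuzukiUnique
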