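import Cfsg.Agent.Lib.SuzukiUnique.Frame
import Cfsg.Agent.Lib.SuzukiUnique.Chart
import Cfsg.Agent.Lib.Sz.Lie

/-!
# Uniqueness of the Suzuki groups

A simple Zassenhaus group whose kernel is a non-abelian 2-group is isomorphic to a Suzuki group.
-/

set_option autoImplicit false
set_option linter.unusedSectionVars false

namespace Cfsg.Agent.SuzukiUnique

open MulAction Cfsg.Agent.SuzukiTwo

universe u v

/-- The kernel element over a point with the group law of type A. -/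
theorem coord_one {P F : Type*} [Group P] [Field F] [CharP F 2] {φ : F ≃+* F} {ξ ζ : P → F}
    (hξ : ∀ g h, ξ (g * h) = ξ g + ξ h)
    (hζ : ∀ g h, ζ (g * h) = ζ g + ζ h + φ (ξ g) * ξ h) : ξ 1 = 0 ∧ ζ 1 = 0 := by
  have h1 : ξ 1 = 0 := by simpa using hξ 1 1
  exact ⟨h1, by simpa [h1] using hζ 1 1⟩

variable {G : Type u} {Ω : Type v} [Group G] [MulAction G Ω] [FaithfulSMul G Ω]
variable {F : Type} [Field F] [Finite F] [CharP F 2]

/-- Coordinates of the kernel turn a frame into a chart. -/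
theorem chart_of_frame (Fr : Frame G Ω) {φ : F ≃+* F} (hinj : Function.Injective (nrm φ))
    (ξ ζ : Fr.U → F) (μ : Fr.E →* Fˣ) (hμ : Function.Surjective μ)
    (hbij : Function.Bijective (fun g => (ξ g, ζ g)))
    (hξ : ∀ g h, ξ (g * h) = ξ g + ξ h)
    (hζ : ∀ g h, ζ (g * h) = ζ g + ζ h + φ (ξ g) * ξ h)
    (hξE : ∀ e g, ξ (Fr.ρ e g) = μ e * ξ g)
    (hζE : ∀ e g, ζ (Fr.ρ e g) = nrm φ (μ e) * ζ g) (hu₀ : ξ Fr.u₀ = 1) :
    Nonempty (Chart φ (ζ Fr.u₀) G) := by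
  classical
  have h2 := CharTwo.two_eq_zero (R := F)
  obtain ⟨hξ1, hζ1⟩ := coord_one hξ hζ
  let Φ : Fr.U ≃ F × F := Equiv.ofBijective _ hbij
  have hΦ : ∀ g, Φ g = (ξ g, ζ g) := fun _ => rfl
  have hΦop : ∀ g h, Φ (g * h) = op φ (Φ g) (Φ h) := fun g h => by
    simp only [hΦ, op, hξ, hζ]
  have hΦ1 : Φ.symm 0 = 1 := by
    rw [Equiv.symm_apply_eq, hΦ, hξ1, hζ1]; rfl
  have hΦne : ∀ p : F × F, p ≠ 0 → Φ.symm p ≠ 1 := fun p hp h => hp (by
    rw [← hΦ1] at h; exact Φ.symm.injective h)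
  let f : Option (F × F) → Ω := fun o => o.elim Fr.a fun p => (Φ.symm p : G) • Fr.b
  have hf : Function.Bijective f := by
    refine ⟨?_, fun c => ?_⟩
    · rintro (_ | p) (_ | q) h
      · rfl
      · exact absurd (show Fr.a = (Φ.symm q : G) • Fr.b from h).symm (Fr.ub_ne _)
      · exact absurd (show (Φ.symm p : G) • Fr.b = Fr.a from h) (Fr.ub_ne _)
      · have h' : (Φ.symm p : G) • Fr.b = (Φ.symm q : G) • Fr.b := h
        obtain ⟨u, -, hu⟩ := Fr.reg _ (Fr.ub_ne (Φ.symm q))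
        rw [Φ.symm.injective ((hu _ h').trans (hu _ rfl).symm)]
    · by_cases hc : c = Fr.a
      · exact ⟨none, hc.symm⟩
      · obtain ⟨u, hu, -⟩ := Fr.reg c hc
        refine ⟨some (Φ u), ?_⟩
        show (Φ.symm (Φ u) : G) • Fr.b = c
        rw [Equiv.symm_apply_apply, hu]
  let e : Option (F × F) ≃ Ω := Equiv.ofBijective f hf
  let ι : G →* Equiv.Perm (Option (F × F)) :=
    e.symm.permCongrHom.toMonoidHom.comp (MulAction.toPermHom G Ω)
  have hι : ∀ g o p, g • f o = f p → ι g o = p := fun g o p h => by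
    show e.symm (g • e o) = p
    rw [Equiv.symm_apply_eq]
    exact h
  have hιinj : Function.Injective ι :=
    fun g h e' => MulAction.toPerm_injective (α := G) (β := Ω)
      (e.symm.permCongrHom.injective e')
  let tr : F × F → G := fun p => (Φ.symm p : G)
  choose E' hE' using hμ
  let hd : Fˣ → G := fun c => (E' c : G)
  let π : F × F → F × F := fun p => Φ (Fr.π (Φ.symm p))
  have hwb : Fr.w • Fr.b = Fr.a := by rw [← Fr.w_a, ← mul_smul, Fr.w_sq, one_smul]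
  have hsome : ∀ g, (g : Fr.U).1 • Fr.b = f (some (Φ g)) := fun g => by
    show _ = (Φ.symm (Φ g) : G) • Fr.b
    rw [Equiv.symm_apply_apply]
  have hρb : ∀ (k : Fr.E) (u : Fr.U), ((Fr.ρ k u : Fr.U) : G) • Fr.b = (k : G) • (u : G) • Fr.b := by
    intro k u
    rw [Fr.conj, mul_smul, mul_smul, inv_smul_eq_iff.2 (Fr.e_b k).symm]
  have htr : ∀ v p, ι (tr v) (some p) = some (op φ v p) := fun v p => hι _ _ _ (by
    show (Φ.symm v : G) • (Φ.symm p : G) • Fr.b = _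
    rw [← mul_smul, ← Subgroup.coe_mul, hsome, hΦop, Equiv.apply_symm_apply,
      Equiv.apply_symm_apply])
  have hw : ∀ p ≠ 0, ι Fr.w (some p) = some (π p) := fun p hp => hι _ _ _ (by
    show Fr.w • (Φ.symm p : G) • Fr.b = _
    rw [Fr.π_spec _ (hΦne p hp), hsome])
  have hw0 : ι Fr.w (some 0) = none := hι _ _ _ (by
    show Fr.w • (Φ.symm 0 : G) • Fr.b = Fr.a
    rw [hΦ1, Subgroup.coe_one, one_smul, hwb])
  have hwn : ι Fr.w none = some 0 := hι _ _ _ (by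
    show Fr.w • Fr.a = (Φ.symm 0 : G) • Fr.b
    rw [hΦ1, Subgroup.coe_one, one_smul, Fr.w_a])
  have hhd : ∀ (c : Fˣ) p, ι (hd c) (some p) = some ((c : F) * p.1, nrm φ c * p.2) :=
    fun c p => hι _ _ _ (by
      show (E' c : G) • (Φ.symm p : G) • Fr.b = _
      rw [← hρb, hsome, hΦ, hξE, hζE, hE']
      have := Φ.apply_symm_apply p
      rw [hΦ, Prod.ext_iff] at this
      simp only [] at this
      rw [this.1, this.2])
  have hξinv : ξ Fr.u₀⁻¹ = 1 := by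
    have h := hξ Fr.u₀⁻¹ Fr.u₀
    rw [inv_mul_cancel, hξ1, hu₀] at h
    linear_combination -h - h2
  have hu₀inv : Φ Fr.u₀⁻¹ = (1, ζ Fr.u₀ + 1) := by
    have h := hζ Fr.u₀⁻¹ Fr.u₀
    rw [inv_mul_cancel, hζ1, hξinv, map_one, hu₀, one_mul] at h
    rw [hΦ, hξinv]
    exact Prod.ext rfl (by linear_combination -h - (ζ Fr.u₀ + 1) * h2)
  have hz : ξ Fr.z₁ = 0 := by
    have h := hζ Fr.z₁ Fr.z₁
    rw [Fr.z₁_sq, hζ1] at h
    have h' : φ (ξ Fr.z₁) * ξ Fr.z₁ = 0 := by linear_combination -h - ζ Fr.z₁ * h2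
    rcases mul_eq_zero.1 h' with e | e
    · exact (map_eq_zero φ).1 e
    · exact e
  have hκ : ζ Fr.z₁ ≠ 0 := fun h => Fr.z₁_ne (hbij.1 (by
    show (ξ Fr.z₁, ζ Fr.z₁) = (ξ 1, ζ 1)
    rw [hz, h, hξ1, hζ1]))
  have hne : ∀ p ≠ 0, π p ≠ 0 := fun p hp h => Fr.π_ne _ (hΦne p hp) (by
    rw [← hΦ1, ← h, Equiv.symm_apply_apply])
  have hpt : ∀ g : Fr.U, Φ.symm (ξ g, ζ g) = g := fun g => by
    rw [← hΦ, Equiv.symm_apply_apply]
  have hdata : Data φ (ζ Fr.u₀) (ζ Fr.z₁) π := by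
    refine data_of_perm hinj hκ hne (fun v => ι (tr v)) htr (ι Fr.w) hw
      (by rw [← map_mul, Fr.w_sq, map_one]) (fun p hp c hc => ?_) ?_ ?_ ?_
    · have hp' : (c * p.1, nrm φ c * p.2) ≠ 0 := fun h => hp (Prod.ext
        ((mul_eq_zero.1 (congrArg Prod.fst h)).resolve_left hc)
        ((mul_eq_zero.1 (congrArg Prod.snd h)).resolve_left (mt nrm_eq_zero.1 hc)))
      have h1 := hhd (Units.mk0 c hc) p
      have h4 : ι (((E' (Units.mk0 c hc))⁻¹ : Fr.E) : G) (some (π p)) =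
          some (c⁻¹ * (π p).1, (nrm φ c)⁻¹ * (π p).2) := hι _ _ _ (by
        show (((E' (Units.mk0 c hc))⁻¹ : Fr.E) : G) • (Φ.symm (π p) : G) • Fr.b = _
        rw [← hρb, hsome, hΦ, hξE, hζE, map_inv μ, hE', Units.val_inv_eq_inv_val, Units.val_mk0,
          nrm_inv]
        have := Φ.apply_symm_apply (π p)
        rw [hΦ, Prod.ext_iff] at this
        simp only [] at this
        rw [this.1, this.2])
      have h5 : Fr.w * (E' (Units.mk0 c hc) : G) =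
          (((E' (Units.mk0 c hc))⁻¹ : Fr.E) : G) * Fr.w := by
        rw [Subgroup.coe_inv]; exact Fr.inverts _
      have h6 := congrArg (fun g => ι g (some p)) h5
      simp only [map_mul, Equiv.Perm.mul_apply] at h6
      rw [h1, hw p hp, h4, Units.val_mk0, hw _ hp'] at h6
      exact Option.some.inj h6
    · show Φ (Fr.π (Φ.symm (1, ζ Fr.u₀))) = _
      rw [← hu₀, hpt, Fr.π_u₀, hΦ]
    · show Φ (Fr.π (Φ.symm (0, ζ Fr.z₁))) = _
      rw [← hz, hpt, Fr.π_z₁, hu₀inv]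
    · have e1 : Φ.symm (0, ζ Fr.z₁) = Fr.z₁ := by rw [← hz, hpt]
      have e2 : Φ.symm (1, ζ Fr.u₀ + 1) = Fr.u₀⁻¹ := by rw [← hu₀inv, Equiv.symm_apply_apply]
      have e3 : Φ.symm (1, ζ Fr.u₀) = Fr.u₀ := by rw [← hu₀, hpt]
      simp only [tr, e1, e2, e3, ← map_mul, Subgroup.coe_inv, Fr.rel]
  refine ⟨⟨ι, hιinj, tr, hd, Fr.w, π, _, hdata, fun v => hι _ _ _ (Fr.u_a _), htr,
    fun c => hι _ _ _ (Fr.e_a _), hhd, hwn, hw0, hw, ?_⟩⟩
  have hEeq : ∀ k k' : Fr.E, μ k = μ k' → (k : G) = k' := by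
    intro k k' h
    refine MulAction.toPerm_injective (α := G) (β := Ω) (Equiv.ext fun x => ?_)
    show (k : G) • x = (k' : G) • x
    by_cases hx : x = Fr.a
    · rw [hx, Fr.e_a, Fr.e_a]
    · obtain ⟨u, hu, -⟩ := Fr.reg x hx
      rw [← hu, ← hρb, ← hρb]
      have : Fr.ρ k u = Fr.ρ k' u := hbij.1 (Prod.ext
        (show ξ (Fr.ρ k u) = ξ (Fr.ρ k' u) by rw [hξE, hξE, h])
        (show ζ (Fr.ρ k u) = ζ (Fr.ρ k' u) by rw [hζE, hζE, h]))
      rw [this]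
  rw [← Fr.gen]
  congr 1
  rw [show Set.range tr = (Fr.U : Set G) from Set.ext fun g =>
      ⟨by rintro ⟨p, rfl⟩; exact (Φ.symm p).2, fun hg => ⟨Φ ⟨g, hg⟩, by simp [tr]⟩⟩,
    show Set.range hd = (Fr.E : Set G) from Set.ext fun g =>
      ⟨by rintro ⟨c, rfl⟩; exact (E' c).2, fun hg => ⟨μ ⟨g, hg⟩, hEeq _ _ (hE' _)⟩⟩]

/-- A simple Zassenhaus group with non-abelian 2-group kernel is a Suzuki group. -/
theorem exists_mulEquiv_sz {G : Type u} {Ω : Type v} [Group G] [Fintype G]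
    [MulAction G Ω] [Fintype Ω] [IsSimpleGroup G] (hZ : Cfsg.IsZassenhausGroup G Ω) {a b : Ω}
    (hab : a ≠ b) {U : Subgroup G} (hUa : U ≤ stabilizer G a)
    (hUcard : Nat.card U + 1 = Fintype.card Ω)
    (hUfix : ∀ u ∈ U, u ≠ 1 → ∀ c : Ω, u • c = c → c = a) (hU2 : IsPGroup 2 U)
    (hnab : ∃ u v : U, u * v ≠ v * u) :
    ∃ (F : Type) (_ : Field F) (_ : Fintype F) (m : ℕ), 1 ≤ m ∧
      Fintype.card F = 2 ^ (2 * m + 1) ∧ Nonempty (G ≃* Cfsg.Sz F m) := by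
  classical
  have := hZ.1
  obtain ⟨m, Fr, hm, hρ, hK, hZcard, hUc⟩ := exists_frame hZ hab hUa hUcard hUfix hU2 hnab
  obtain ⟨F, iF, iFi, iC, φ, ξ, ζ, μ, hcard, hinj, hμ, hbij, hξ, hζ, hξk, hζk⟩ :=
    exists_coords hK hUc
  rw [hZcard] at hcard
  have h2 := CharTwo.two_eq_zero (R := F)
  let μE : Fr.E →* Fˣ := μ.comp Fr.ρ.rangeRestrict
  have hμE : Function.Surjective μE := hμ.2.comp Fr.ρ.rangeRestrict_surjective
  obtain ⟨hξ1, hζ1⟩ := coord_one hξ hζ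
  set s := ξ Fr.u₀ with hsdef
  have hs : s ≠ 0 := fun h => Fr.u₀_sq (hbij.1 (by
    show (ξ (Fr.u₀ * Fr.u₀), ζ (Fr.u₀ * Fr.u₀)) = (ξ 1, ζ 1)
    rw [hξ, hζ, ← hsdef, h, hξ1, hζ1, map_zero, zero_mul, add_zero, add_zero,
      CharTwo.add_self_eq_zero]))
  have hns : nrm φ s ≠ 0 := mt nrm_eq_zero.1 hs
  let ξ' : Fr.U → F := fun g => ξ g / s
  let ζ' : Fr.U → F := fun g => ζ g / nrm φ s
  have hξ' : ∀ g h, ξ' (g * h) = ξ' g + ξ' h := fun g h => by simp only [ξ', hξ, add_div]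
  have hζ' : ∀ g h, ζ' (g * h) = ζ' g + ζ' h + φ (ξ' g) * ξ' h := fun g h => by
    have hφs : φ s ≠ 0 := (map_ne_zero φ).2 hs
    simp only [ξ', ζ', hζ, map_div₀, nrm]
    field_simp
  have hbij' : Function.Bijective (fun g => (ξ' g, ζ' g)) := by
    refine Function.Bijective.comp (g := fun p : F × F => (p.1 / s, p.2 / nrm φ s)) ?_ hbij
    refine Finite.injective_iff_bijective.1 fun p q h => ?_
    simp only [Prod.mk.injEq, div_left_inj' hs, div_left_inj' hns] at h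
    exact Prod.ext h.1 h.2
  have hξE : ∀ e g, ξ' (Fr.ρ e g) = μE e * ξ' g := fun e g => by
    simp only [ξ', ← mul_div_assoc]
    exact congrArg (· / s) (hξk (Fr.ρ.rangeRestrict e) g)
  have hζE : ∀ e g, ζ' (Fr.ρ e g) = nrm φ (μE e) * ζ' g := fun e g => by
    simp only [ζ', ← mul_div_assoc]
    exact congrArg (· / nrm φ s) (hζk (Fr.ρ.rangeRestrict e) g)
  have hu₀ : ξ' Fr.u₀ = 1 := div_self hs
  obtain ⟨C⟩ := chart_of_frame Fr hinj ξ' ζ' μE hμE hbij' hξ' hζ' hξE hζE hu₀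
  rcases C.data.cases_phi with ⟨hb, hφ⟩ | ⟨hb, hφ⟩
  · rw [hb] at C
    obtain ⟨D⟩ := model_chart hm hcard φ hφ
    exact ⟨F, iF, iFi, m, hm, hcard, C.nonempty_mulEquiv D⟩
  · have hinj' : Function.Injective (nrm φ.symm) := by
      have key : ∀ x, nrm φ.symm x = nrm φ (φ.symm x) := fun x => by
        simp only [nrm, RingEquiv.apply_symm_apply]; ring
      intro x y h
      rw [key, key] at h
      exact φ.symm.injective (hinj h)
    let ζ'' : Fr.U → F := fun g => φ.symm (ζ' g + φ (ξ' g) * ξ' g)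
    have hζ'' : ∀ g h, ζ'' (g * h) = ζ'' g + ζ'' h + φ.symm (ξ' g) * ξ' h := fun g h => by
      apply φ.injective
      simp only [ζ'', map_add, map_mul, RingEquiv.apply_symm_apply, hζ', hξ']
      linear_combination (φ (ξ' g) * ξ' h) * h2
    have hbij'' : Function.Bijective (fun g => (ξ' g, ζ'' g)) := by
      refine Function.Bijective.comp
        (g := fun p : F × F => (p.1, φ.symm (p.2 + φ p.1 * p.1))) ?_ hbij'
      refine Finite.injective_iff_bijective.1 fun p q h => ?_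
      simp only [Prod.mk.injEq, EmbeddingLike.apply_eq_iff_eq] at h
      obtain ⟨h1, h3⟩ := h
      rw [h1] at h3
      exact Prod.ext h1 (add_right_cancel h3)
    have hζE'' : ∀ e g, ζ'' (Fr.ρ e g) = nrm φ.symm (μE e) * ζ'' g := fun e g => by
      apply φ.injective
      simp only [ζ'', map_mul, nrm, RingEquiv.apply_symm_apply, hξE, hζE, map_add]
      ring
    have hb'' : ζ'' Fr.u₀ = 1 := by simp [ζ'', hu₀, hb]
    obtain ⟨C'⟩ := chart_of_frame Fr hinj' ξ' ζ'' μE hμE hbij'' hξ' hζ'' hξE hζE'' hu₀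
    rw [hb''] at C'
    obtain ⟨D⟩ := model_chart hm hcard φ.symm hφ
    exact ⟨F, iF, iFi, m, hm, hcard, C'.nonempty_mulEquiv D⟩

/-- The same with the Suzuki group of the Lie list. -/
theorem exists_mulEquiv_lieSz {G : Type u} {Ω : Type v} [Group G] [Fintype G]
    [MulAction G Ω] [Fintype Ω] [IsSimpleGroup G] (hZ : Cfsg.IsZassenhausGroup G Ω) {a b : Ω}
    (hab : a ≠ b) {U : Subgroup G} (hUa : U ≤ stabilizer G a)
    (hUcard : Nat.card U + 1 = Fintype.card Ω)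
    (hUfix : ∀ u ∈ U, u ≠ 1 → ∀ c : Ω, u • c = c → c = a) (hU2 : IsPGroup 2 U)
    (hnab : ∃ u v : U, u * v ≠ v * u) :
    ∃ (F : Type) (_ : Field F) (_ : Fintype F) (m : ℕ), 1 ≤ m ∧
      Fintype.card F = 2 ^ (2 * m + 1) ∧ Nonempty (G ≃* Cfsg.Lie.Sz F (2 ^ (m + 1))) := by
  obtain ⟨F, iF, iFi, m, hm, hcard, ⟨e⟩⟩ := exists_mulEquiv_sz hZ hab hUa hUcard hUfix hU2 hnab
  exact ⟨F, iF, iFi, m, hm, hcard, ⟨e.trans (SZ.szEquiv hm hcard)⟩⟩

end Cfsg.Agent.SuzukiUnique
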