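import Cfsg.Agent.Lib.ZassenhausSimple.Basic
import Cfsg.Agent.Lib.SuzukiUnique.Main

/-!
# Simple Zassenhaus groups, up to isomorphism
-/

set_option autoImplicit false

namespace Cfsg.Agent.SuzukiUnique

/-- A simple Zassenhaus group is a `PSL₂(F)` or a Suzuki group. -/
theorem psl_or_lieSz {G Ω : Type*} [Group G] [Finite G] [MulAction G Ω] [Finite Ω]
    (hZ : Cfsg.IsZassenhausGroup G Ω) [IsSimpleGroup G] :
    (∃ (F : Type) (_ : Field F) (_ : Fintype F),
      Nonempty (G ≃* Matrix.ProjectiveSpecialLinearGroup (Fin 2) F)) ∨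
    ∃ (F : Type) (_ : Field F) (_ : Fintype F) (m : ℕ), 1 ≤ m ∧
      Fintype.card F = 2 ^ (2 * m + 1) ∧ Nonempty (G ≃* Cfsg.Lie.Sz F (2 ^ (m + 1))) := by
  classical
  let _ := Fintype.ofFinite Ω
  let _ := Fintype.ofFinite G
  rcases ZassenhausSimple.psl_or_kernel hZ with h | ⟨a, b, H, hab, hHa, hHcard, hHfix, h2, hnab⟩
  · exact Or.inl h
  · rw [Nat.card_eq_fintype_card (α := Ω)] at hHcard
    exact Or.inr (exists_mulEquiv_lieSz hZ hab hHa hHcard hHfix h2 hnab)

end Cfsg.Agent.SuzukiUnique
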