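import Mathlib

/-!
# The Suzuki identity

`F × F` carries the group law `(x, y) (x', y') = (x + x', y + y' + φ x x')`.  A map `π` on the non-zero
points which is an involution, turns the dilations `(c x, c φ(c) y)` into their inverses, fixes
`(1, b)`, and satisfies one identity coming from a relation `w z w = a w a⁻¹` is unique, and either
`b = 1, φ² = 2` or `b = 0, φ⁻² = 2`.
-/

set_option autoImplicit false
set_option linter.unusedSectionVars false

namespace Cfsg.Agent.SuzukiUnique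

variable {F : Type*} [Field F] [Finite F] [CharP F 2]

/-- The multiplication of `F × F`. -/
def op (φ : F ≃+* F) (u v : F × F) : F × F := (u.1 + v.1, u.2 + v.2 + φ u.1 * v.1)

/-- The norm `c ↦ c φ(c)`. -/
def nrm (φ : F ≃+* F) (c : F) : F := c * φ c

/-- The data satisfied by the swap of two points in a Zassenhaus group of Suzuki type. -/
structure Data (φ : F ≃+* F) (b κ : F) (π : F × F → F × F) : Prop where
  inj : Function.Injective (nrm φ)
  kappa : κ ≠ 0
  ne_zero : ∀ u ≠ 0, π u ≠ 0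
  invol : ∀ u ≠ 0, π (π u) = u
  scale : ∀ u ≠ 0, ∀ c ≠ 0,
    π (c * u.1, nrm φ c * u.2) = (c⁻¹ * (π u).1, (nrm φ c)⁻¹ * (π u).2)
  fix : π (1, b) = (1, b)
  zImg : π (0, κ) = (1, b + 1)
  ident : ∀ u ≠ 0, u ≠ (1, b + 1) →
    π ((π u).1, (π u).2 + κ) = op φ (1, b + 1) (π (op φ (1, b) u))

theorem nrm_mul (φ : F ≃+* F) (x y : F) : nrm φ (x * y) = nrm φ x * nrm φ y := by
  simp [nrm, mul_mul_mul_comm]

theorem nrm_inv (φ : F ≃+* F) (x : F) : nrm φ x⁻¹ = (nrm φ x)⁻¹ := by simp [nrm, mul_comm]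

theorem nrm_eq_zero {φ : F ≃+* F} {x : F} : nrm φ x = 0 ↔ x = 0 := by simp [nrm]

theorem nrm_one (φ : F ≃+* F) : nrm φ (1 : F) = 1 := by simp [nrm]

theorem nrm_zero (φ : F ≃+* F) : nrm φ (0 : F) = 0 := by simp [nrm]

theorem point_ne_zero {x y : F} (h : x ≠ 0) : ((x, y) : F × F) ≠ 0 :=
  fun e => h (congrArg Prod.fst e)

theorem point_ne_zero' {x y : F} (h : y ≠ 0) : ((x, y) : F × F) ≠ 0 :=
  fun e => h (congrArg Prod.snd e)

variable {φ : F ≃+* F} {b κ : F} {π : F × F → F × F}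

/-- The first coordinate of `π (1, t)`. -/
def coA (π : F × F → F × F) (t : F) : F := (π (1, t)).1

/-- The second coordinate of `π (1, t)`. -/
def coB (π : F × F → F × F) (t : F) : F := (π (1, t)).2

namespace Data

variable (h : Data φ b κ π)
include h

theorem exists_root (r : F) : ∃ ρ, nrm φ ρ = r := Finite.surjective_of_injective h.inj r

theorem exists_root_ne {r : F} (hr : r ≠ 0) : ∃ ρ ≠ 0, nrm φ ρ = r := by
  obtain ⟨ρ, hρ⟩ := h.exists_root r
  exact ⟨ρ, fun e => hr (by rw [← hρ, e, nrm_zero]), hρ⟩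

theorem pi_eq {c : F} (hc : c ≠ 0) (y : F) :
    π (c, y) = (c⁻¹ * coA π (y / nrm φ c), (nrm φ c)⁻¹ * coB π (y / nrm φ c)) := by
  have h1 := h.scale (1, y / nrm φ c) (point_ne_zero one_ne_zero) c hc
  simp only [mul_one] at h1
  rwa [mul_div_cancel₀ _ (mt nrm_eq_zero.1 hc)] at h1

theorem pi_fixed {c : F} (hc : c ≠ 0) : π (c, nrm φ c * b) = (c⁻¹, (nrm φ c)⁻¹ * b) := by
  have h1 := h.scale (1, b) (point_ne_zero one_ne_zero) c hc
  simp only [mul_one, h.fix] at h1
  exact h1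

theorem pi_invol_ne {u : F × F} (hu : u ≠ 0) {v : F × F} (hv : π u = v) : π v = u := by
  rw [← hv, h.invol u hu]

theorem pi_zero {ρ : F} (hρ : ρ ≠ 0) :
    π (0, nrm φ ρ * κ) = (ρ⁻¹, (nrm φ ρ)⁻¹ * (b + 1)) := by
  have h1 := h.scale (0, κ) (point_ne_zero' h.kappa) ρ hρ
  simp only [mul_zero, h.zImg, mul_one] at h1
  exact h1

theorem pi_one : π (1, b + 1) = (0, κ) := h.pi_invol_ne (point_ne_zero' h.kappa) h.zImg

theorem kappa_eq : κ = 1 := by
  obtain ⟨ρ, hρ, hρκ⟩ := h.exists_root_ne (inv_ne_zero h.kappa)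
  have hu : π (0, 1) = (ρ⁻¹, nrm φ ρ⁻¹ * (b + 1)) := by
    have := h.pi_zero hρ
    rwa [hρκ, inv_mul_cancel₀ h.kappa, ← hρκ, ← nrm_inv] at this
  have hn : nrm φ ρ⁻¹ = κ := by rw [nrm_inv, hρκ, inv_inv]
  have h1 := h.ident (0, 1) (point_ne_zero' one_ne_zero)
    (fun e => zero_ne_one (congrArg Prod.fst e))
  rw [hu, show op φ (1, b) (0, 1) = ((1 : F), b + 1) by simp [op], h.pi_one] at h1
  rw [show nrm φ ρ⁻¹ * (b + 1) + κ = nrm φ ρ⁻¹ * b by
    rw [hn]; linear_combination κ * CharTwo.two_eq_zero (R := F),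
    h.pi_fixed (inv_ne_zero hρ)] at h1
  have h2 : ρ = 1 := by simpa [op] using congrArg Prod.fst h1
  rw [h2, nrm_one] at hρκ
  rw [← inv_inv κ, ← hρκ, inv_one]

theorem pi_zero' {ρ : F} (hρ : ρ ≠ 0) :
    π (0, nrm φ ρ) = (ρ⁻¹, (nrm φ ρ)⁻¹ * (b + 1)) := by
  simpa [h.kappa_eq] using h.pi_zero hρ

theorem pi_snd {c : F} (hc : c ≠ 0) : π (c, nrm φ c * (b + 1)) = (0, (nrm φ c)⁻¹) := by
  have h1 := h.pi_zero' (inv_ne_zero hc)
  rw [nrm_inv, inv_inv, inv_inv] at h1
  exact h.pi_invol_ne (point_ne_zero' (inv_ne_zero (mt nrm_eq_zero.1 hc))) h1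

/-- The two recursions. -/
theorem recursion {ρ : F} (hρ : ρ ≠ 0) :
    ρ * coA π (b + nrm φ ρ + 1) = 1 + coA π (b + nrm φ ρ) ∧
      nrm φ ρ * coB π (b + nrm φ ρ + 1) =
        b + 1 + coB π (b + nrm φ ρ) + coA π (b + nrm φ ρ) := by
  have hk : nrm φ ρ ≠ 0 := mt nrm_eq_zero.1 hρ
  have h1 := h.ident (0, nrm φ ρ) (point_ne_zero' hk) (fun e => zero_ne_one (congrArg Prod.fst e))
  rw [h.pi_zero' hρ, h.kappa_eq,
    show op φ (1, b) (0, nrm φ ρ) = ((1 : F), b + nrm φ ρ) by simp [op]] at h1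
  rw [h.pi_eq (inv_ne_zero hρ), nrm_inv, inv_inv, inv_inv,
    show ((nrm φ ρ)⁻¹ * (b + 1) + 1) / (nrm φ ρ)⁻¹ = b + nrm φ ρ + 1 by field_simp; ring] at h1
  refine ⟨(congrArg Prod.fst h1).trans ?_, (congrArg Prod.snd h1).trans ?_⟩ <;>
    simp [op, coA, coB]

/-- The solution for `r = ρ φ(ρ)` different from `0` and `1`. -/
theorem solution {ρ σ : F} (hρ : ρ ≠ 0) (hρ1 : ρ ≠ 1) (hσ : nrm φ σ = nrm φ ρ + 1) :
    1 + ρ * σ ≠ 0 ∧ (1 + ρ * σ) * coA π (b + nrm φ ρ) = 1 + ρ ∧
      1 + nrm φ ρ + nrm φ ρ * nrm φ ρ ≠ 0 ∧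
      (1 + nrm φ ρ + nrm φ ρ * nrm φ ρ) * coB π (b + nrm φ ρ) =
        (nrm φ ρ + 1) * (b + 1) + coA π (b + nrm φ ρ) +
          nrm φ ρ * coA π (b + nrm φ ρ + 1) := by
  have h2 := CharTwo.two_eq_zero (R := F)
  set r := nrm φ ρ with hr
  have hσ0 : σ ≠ 0 := by
    rintro rfl
    rw [nrm_zero] at hσ
    exact hρ1 (h.inj (by rw [nrm_one]; linear_combination -hσ - h2))
  obtain ⟨a1, b1⟩ := h.recursion hρ
  obtain ⟨a2, b2⟩ := h.recursion hσ0
  rw [← hr] at a1 b1
  rw [hσ, show b + (r + 1) + 1 = b + r by linear_combination h2,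
    show b + (r + 1) = b + r + 1 by ring] at a2 b2
  have hA : (1 + ρ * σ) * coA π (b + r) = 1 + ρ := by
    linear_combination ρ * a2 + a1 + (coA π (b + r)) * h2
  have hne : 1 + ρ * σ ≠ 0 := fun e => hρ1 (by
    rw [e, zero_mul] at hA
    linear_combination -hA - h2)
  have hne2 : 1 + r + r * r ≠ 0 := fun e => hne (by
    have : ρ * σ = 1 := h.inj (by rw [nrm_mul, nrm_one, hσ, ← hr]; linear_combination e - h2)
    linear_combination this + h2)
  refine ⟨hne, hA, hne2, ?_⟩
  linear_combination r * b2 + b1 + coB π (b + r) * h2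

/-- The key relation. -/
theorem relation {u ρ : F} (hu : u ≠ 0) (hu1 : u ≠ 1) (hρ : nrm φ ρ = nrm φ u + 1) :
    ρ ≠ 0 ∧ coA π ((b + nrm φ u⁻¹ * (b + 1) + u⁻¹) / nrm φ (1 + u⁻¹)) =
      (1 + ρ⁻¹) * (1 + u⁻¹) := by
  have h2 := CharTwo.two_eq_zero (R := F)
  have hc : u⁻¹ ≠ 0 := inv_ne_zero hu
  have hc1 : 1 + u⁻¹ ≠ 0 := fun e => hu1 (by
    have h' : u⁻¹ = 1 := by linear_combination e - h2
    rw [← inv_inv u, h', inv_one])
  have hρ0 : ρ ≠ 0 := by
    rintro rfl
    rw [nrm_zero] at hρ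
    exact hu1 (h.inj (by rw [nrm_one]; linear_combination -hρ - h2))
  refine ⟨hρ0, ?_⟩
  have h1 := h.ident (u⁻¹, nrm φ u⁻¹ * (b + 1)) (point_ne_zero hc)
    (fun e => hu1 (inv_eq_one.1 (congrArg Prod.fst e)))
  rw [h.pi_snd hc, nrm_inv, inv_inv, h.kappa_eq, ← hρ, h.pi_zero' hρ0,
    show op φ (1, b) (u⁻¹, (nrm φ u)⁻¹ * (b + 1)) =
      (1 + u⁻¹, b + (nrm φ u)⁻¹ * (b + 1) + u⁻¹) by simp [op],
    h.pi_eq hc1] at h1
  have h3 := congrArg Prod.fst h1
  simp only [op] at h3
  rw [nrm_inv]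
  set A := coA π ((b + (nrm φ u)⁻¹ * (b + 1) + u⁻¹) / nrm φ (1 + u⁻¹))
  calc A = (1 + u⁻¹) * ((1 + u⁻¹)⁻¹ * A) := by rw [mul_inv_cancel_left₀ hc1]
    _ = (1 + u⁻¹) * (ρ⁻¹ + 1) := by
      congr 1
      linear_combination -h3 - h2
    _ = _ := by ring

theorem fixed_field {u : F} (hu : φ u = u) : u = 0 ∨ u = 1 := by
  have h2 := CharTwo.two_eq_zero (R := F)
  by_contra hne
  push Not at hne
  obtain ⟨hu0, hu1⟩ := hne
  have hn : nrm φ u = u * u := by rw [nrm, hu]
  have hρ : nrm φ (1 + u) = nrm φ u + 1 := by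
    rw [hn, nrm, map_add, map_one, hu]
    linear_combination u * h2
  obtain ⟨-, hA⟩ := h.relation hu0 hu1 hρ
  have h1u : 1 + u ≠ 0 := fun e => hu1 (by linear_combination e - h2)
  set r : F := (1 + u)⁻¹ with hrdef
  have harg : (b + nrm φ u⁻¹ * (b + 1) + u⁻¹) / nrm φ (1 + u⁻¹) = b + r := by
    have hci : 1 + u⁻¹ = (1 + u) / u := by field_simp; ring
    rw [hci, nrm, map_inv₀, hu, nrm, map_div₀, map_add, map_one, hu, hrdef]
    field_simp
    linear_combination (-(b * u)) * h2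
  rw [harg] at hA
  have hrhs : (1 + (1 + u)⁻¹) * (1 + u⁻¹) = 1 := by
    field_simp
    linear_combination (1 + u) * h2
  rw [hrhs] at hA
  have hr0 : r ≠ 0 := inv_ne_zero h1u
  obtain ⟨s, hs0, hs⟩ := h.exists_root_ne hr0
  obtain ⟨s', hs'⟩ := h.exists_root (r + 1)
  rw [← hs] at hs' hA
  have hs1 : s ≠ 1 := fun e => hu0 (by
    rw [e, nrm_one, hrdef] at hs
    have := inv_eq_one.1 hs.symm
    linear_combination this)
  obtain ⟨-, h4, -, -⟩ := h.solution hs0 hs1 hs'
  rw [hA, mul_one] at h4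
  have h5 : s' = 1 := mul_left_cancel₀ hs0 (by linear_combination h4)
  rw [h5, nrm_one] at hs'
  exact hs0 (nrm_eq_zero.1 (by linear_combination -hs'))

theorem b_cases : b = 0 ∨ b = 1 := by
  classical
  have h2 := CharTwo.two_eq_zero (R := F)
  by_contra hne
  push Not at hne
  obtain ⟨hb0, hb1⟩ := hne
  have hb1' : 1 + b ≠ 0 := fun e => hb1 (by linear_combination e - h2)
  let f : Fˣ →* Fˣ := Units.map (φ : F →* F) / MonoidHom.id Fˣ
  have hf : Function.Injective f := by
    refine (injective_iff_map_eq_one f).2 fun v hv => ?_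
    have : φ (v : F) = v := by
      have := congrArg Units.val (div_eq_one.1 hv)
      simpa using this
    rcases h.fixed_field this with h0 | h1
    · exact absurd h0 v.ne_zero
    · exact Units.ext h1
  obtain ⟨v, hv⟩ := Finite.surjective_of_injective hf (Units.mk0 (b / (1 + b)) (div_ne_zero hb0 hb1'))
  have hv' : φ (v : F) * (1 + b) = b * v := by
    have := congrArg Units.val hv
    simp only [f, MonoidHom.div_apply, Units.val_div_eq_div_val, Units.coe_map,
      MonoidHom.id_apply, Units.val_mk0] at this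
    rw [div_eq_div_iff v.ne_zero hb1'] at this
    simpa using this
  have hv1 : (v : F) ≠ 1 := fun e => by
    rw [e, map_one, one_mul, mul_one] at hv'
    exact one_ne_zero (α := F) (by linear_combination hv')
  set u : F := 1 + v with hudef
  have hu0 : u ≠ 0 := fun e => hv1 (by linear_combination e - h2)
  have hu1 : u ≠ 1 := fun e => v.ne_zero (by linear_combination e)
  obtain ⟨ρ, hρ⟩ := h.exists_root (nrm φ u + 1)
  obtain ⟨hρ0, hA⟩ := h.relation hu0 hu1 hρ
  have hzero : φ u + 1 + b * (φ u + u) = 0 := by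
    rw [hudef, map_add, map_one]
    linear_combination hv' + (1 + b + b * v) * h2
  clear_value u
  have hu' : φ u ≠ 0 := (map_ne_zero φ).2 hu0
  have hc1 : 1 + u⁻¹ ≠ 0 := fun e => hu1 (by
    have h' : u⁻¹ = 1 := by linear_combination e - h2
    rw [← inv_inv u, h', inv_one])
  have harg : (b + nrm φ u⁻¹ * (b + 1) + u⁻¹) / nrm φ (1 + u⁻¹) = b := by
    rw [div_eq_iff (mt nrm_eq_zero.1 hc1), nrm, map_inv₀, nrm, map_add, map_one, map_inv₀]
    field_simp
    linear_combination hzero - (b * φ u + b * u) * h2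
  rw [harg, coA, h.fix] at hA
  have h3 : ρ = 1 + u := by
    field_simp at hA
    linear_combination hA + ρ * h2
  have h4 : φ u = u := by
    rw [h3] at hρ
    simp only [nrm, map_add, map_one] at hρ
    linear_combination hρ - u * h2
  rcases h.fixed_field h4 with e | e
  · exact hu0 e
  · exact hu1 e

end Data

/-- An automorphism `ψ` with `ψ x φ(ψ x) = x² φ(x)` is `φ` and `φ² = 2`. -/
theorem sq_of_factor {φ : F ≃+* F} {ψ : F → F} (hψ : ∀ x y, ψ (x + y) = ψ x + ψ y)
    (hψ1 : ψ 1 = 1) (α β : F →+ F) (hα : α 1 = 1) (hβ : β 1 = 1)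
    (h : ∀ x, ψ x * φ (ψ x) = α x * β x) :
    (∀ x, ψ x = α x ∧ φ (α x) = β x) ∨ (∀ x, ψ x = β x ∧ φ (β x) = α x) := by
  classical
  have hpol : ∀ x, ψ x + φ (ψ x) = α x + β x := fun x => by
    have h1 := h (x + 1)
    rw [hψ, hψ1, map_add φ, map_one, map_add α, map_add β, hα, hβ] at h1
    linear_combination h1 - h x
  have hor : ∀ x, ψ x = α x ∨ ψ x = β x := fun x => by
    have : (ψ x - α x) * (ψ x - β x) = 0 := by
      linear_combination ψ x * hpol x - h x
    rcases mul_eq_zero.1 this with e | e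
    · exact Or.inl (sub_eq_zero.1 e)
    · exact Or.inr (sub_eq_zero.1 e)
  have hall : (∀ x, ψ x = α x) ∨ ∀ x, ψ x = β x := by
    by_contra hc
    push Not at hc
    obtain ⟨⟨x, hx⟩, y, hy⟩ := hc
    have hx' := (hor x).resolve_left hx
    have hy' := (hor y).resolve_right hy
    rcases hor (x + y) with e | e <;> rw [hψ, map_add] at e
    · exact hx (by rw [hy'] at e; exact add_right_cancel e)
    · exact hy (by rw [hx'] at e; exact add_left_cancel e)
  rcases hall with e | e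
  · refine Or.inl fun x => ⟨e x, ?_⟩
    have := hpol x
    rw [e] at this
    exact add_left_cancel this
  · refine Or.inr fun x => ⟨e x, ?_⟩
    have := hpol x
    rw [e] at this
    linear_combination this

namespace Data

variable (h : Data φ b κ π)
include h

/-- The functional equation, with `r'` the abscissa attached to `w`. -/
theorem additive (r' : F →+ F) (hr1 : r' 1 = 1) (hr0 : ∀ w, r' w = 0 → w = 0)
    (hr : ∀ w, w ≠ 0 → w ≠ 1 →
      (b + nrm φ ((1 + w) / w)⁻¹ * (b + 1) + ((1 + w) / w)⁻¹) / nrm φ (1 + ((1 + w) / w)⁻¹) =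
        b + r' w)
    {w W V : F} (hw : w ≠ 0) (hw1 : w ≠ 1) (hW : nrm φ W = r' w)
    (hV : nrm φ V = r' (1 + w)) :
    1 + w ^ 2 / W = (1 + w) ^ 2 / V := by
  have h2 := CharTwo.two_eq_zero (R := F)
  have hz : 1 + w ≠ 0 := fun e => hw1 (by linear_combination e - h2)
  have hz1 : 1 + w ≠ 1 := fun e => hw (by linear_combination e)
  have hW0 : W ≠ 0 := fun e => hw (hr0 w (by rw [← hW, e, nrm_zero]))
  have hV0 : V ≠ 0 := fun e => hz (hr0 _ (by rw [← hV, e, nrm_zero]))
  have key : ∀ {x X Y : F}, x ≠ 0 → x ≠ 1 → nrm φ X = r' x → nrm φ Y = r' (1 + x) →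
      ∃ S : F, nrm φ S = nrm φ x + nrm φ (1 + x) ∧ 1 + X * Y ≠ 0 ∧
        (1 + X) * (1 + x) * S = (S + x) * (1 + X * Y) := by
    intro x X Y hx hx1 hX hY
    have hx' : 1 + x ≠ 0 := fun e => hx1 (by linear_combination e - h2)
    set u := (1 + x) / x with hu
    have hu0 : u ≠ 0 := div_ne_zero hx' hx
    have hu1 : u ≠ 1 := fun e => one_ne_zero (α := F) (by
      rw [hu, div_eq_iff hx] at e
      linear_combination e)
    obtain ⟨ρ, hρ⟩ := h.exists_root (nrm φ u + 1)
    obtain ⟨hρ0, hA⟩ := h.relation hu0 hu1 hρ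
    rw [hu, hr x hx hx1, ← hu, ← hX] at hA
    have hX0 : X ≠ 0 := fun e => hx (hr0 x (by rw [← hX, e, nrm_zero]))
    have hX1 : X ≠ 1 := fun e => hx' (hr0 _ (by
      rw [map_add, hr1, ← hX, e, nrm_one]; linear_combination h2))
    obtain ⟨hne, hS, -, -⟩ := h.solution hX0 hX1 (σ := Y) (by rw [hY, map_add, hr1, hX, add_comm])
    rw [hA] at hS
    refine ⟨ρ * x, ?_, hne, ?_⟩
    · rw [nrm_mul, hρ, hu, add_mul, one_mul, ← nrm_mul, div_mul_cancel₀ _ hx, add_comm]
    · have hx2 : 1 + u⁻¹ = (1 + x)⁻¹ := by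
        rw [hu, inv_div]
        field_simp
        linear_combination x * h2
      rw [hx2] at hS
      field_simp at hS
      linear_combination -x * hS
  obtain ⟨S, hS, hne, e1⟩ := key hw hw1 hW hV
  have hVw : 1 + (1 + w) = w := by linear_combination h2
  obtain ⟨S', hS', -, e2⟩ := key hz hz1 hV (by rw [hVw]; exact hW)
  have hSS : S' = S := h.inj (by rw [hS, hS', hVw, add_comm])
  rw [hSS, hVw, mul_comm V W] at e2
  have hS0 : S ≠ 0 := fun e => hw (by
    rw [e, mul_zero, zero_add] at e1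
    exact (mul_eq_zero.1 e1.symm).resolve_right hne)
  have hrel : W + w ^ 2 * (W + V) + W * V = 0 := by
    have : S * ((1 + W) * (1 + w) ^ 2 - (1 + V) * w ^ 2 - (1 + W * V)) = 0 := by
      linear_combination (1 + w) * e1 - w * e2
    have h' := (mul_eq_zero.1 this).resolve_left hS0
    linear_combination h' - (w + W * w - W * V - V * w ^ 2) * h2
  field_simp
  linear_combination hrel - (W + W * w + W * w ^ 2) * h2

/-- `b = 1` and `φ² = 2`, or `b = 0` and `φ⁻² = 2`. -/
theorem cases_phi :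
    (b = 1 ∧ ∀ x, φ (φ x) = x ^ 2) ∨ (b = 0 ∧ ∀ x, φ.symm (φ.symm x) = x ^ 2) := by
  classical
  have h2 := CharTwo.two_eq_zero (R := F)
  choose root hroot using h.exists_root
  have hrm : ∀ x y, root (x * y) = root x * root y := fun x y =>
    h.inj (by rw [nrm_mul, hroot, hroot, hroot])
  have hr01 : root 1 = 1 := h.inj (by rw [hroot, nrm_one])
  have hr00 : root 0 = 0 := h.inj (by rw [hroot, nrm_zero])
  let sq : F →+ F := AddMonoidHom.mk' (fun x => x ^ 2) fun x y => by
    linear_combination x * y * h2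
  -- the additive map `ψ`
  have main : ∀ (r' : F →+ F), r' 1 = 1 → (∀ w, r' w = 0 → w = 0) → (∀ w, w ≠ 0 → w ≠ 1 →
      (b + nrm φ ((1 + w) / w)⁻¹ * (b + 1) + ((1 + w) / w)⁻¹) / nrm φ (1 + ((1 + w) / w)⁻¹) =
        b + r' w) → (∀ x y, r' (x * y) = r' x * r' y) →
      ∀ x y, (x + y) ^ 2 / root (r' (x + y)) = x ^ 2 / root (r' x) + y ^ 2 / root (r' y) := by
    intro r' hr1 hr0 hr hrmul
    set ψ : F → F := fun x => x ^ 2 / root (r' x) with hψ
    have hψm : ∀ x y, ψ (x * y) = ψ x * ψ y := fun x y => by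
      simp only [hψ, hrmul, hrm, mul_pow, div_mul_div_comm]
    have hψ1 : ψ 1 = 1 := by simp [hψ, hr1, hr01]
    have hψ0 : ψ 0 = 0 := by simp [hψ]
    have hstep : ∀ w, ψ (1 + w) = 1 + ψ w := by
      intro w
      rcases eq_or_ne w 0 with rfl | hw
      · simp [hψ0, hψ1]
      rcases eq_or_ne w 1 with rfl | hw1
      · rw [show (1 : F) + 1 = 0 by linear_combination h2, hψ0, hψ1]
        linear_combination -h2
      exact (h.additive r' hr1 hr0 hr hw hw1 (hroot _) (hroot _)).symm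
    intro x y
    change ψ (x + y) = ψ x + ψ y
    rcases eq_or_ne x 0 with rfl | hx
    · simp [hψ0]
    calc ψ (x + y) = ψ (x * (1 + y / x)) := by rw [mul_add, mul_one, mul_div_cancel₀ _ hx]
      _ = ψ x + ψ x * ψ (y / x) := by rw [hψm, hstep, mul_add, mul_one]
      _ = _ := by rw [← hψm, mul_div_cancel₀ _ hx]
  by_cases hnot : ∀ x : F, x ^ 2 = x
  · have hid : ∀ x, φ x = x := fun x => by
      have : x * (x - 1) = 0 := by linear_combination hnot x
      rcases mul_eq_zero.1 this with rfl | e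
      · exact map_zero φ
      · rw [sub_eq_zero.1 e]; exact map_one φ
    rcases h.b_cases with hb | hb
    · refine Or.inr ⟨hb, fun x => ?_⟩
      have hs : ∀ y, φ.symm y = y := fun y => by
        conv_lhs => rw [← hid y]
        exact φ.symm_apply_apply y
      rw [hnot, hs, hs]
    · exact Or.inl ⟨hb, fun x => by rw [hnot, hid, hid]⟩
  rcases h.b_cases with hb | hb
  · -- `b = 0`
    refine Or.inr ⟨hb, ?_⟩
    let idh : F →+ F := AddMonoidHom.id F
    have hadd := main idh rfl (fun w e => e) (fun w hw hw1 => by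
      have hz : 1 + w ≠ 0 := fun e => hw1 (by linear_combination e - h2)
      have hc : 1 + ((1 + w) / w)⁻¹ = (1 + w)⁻¹ := by
        rw [inv_div]; field_simp; linear_combination w * h2
      rw [hc, nrm_inv φ (1 + w), inv_div, nrm, map_div₀, map_add, map_one, nrm, map_add, map_one,
        hb]
      have hz' : 1 + φ w ≠ 0 := by
        rw [← map_one φ, ← map_add]; exact (map_ne_zero φ).2 hz
      simp only [idh, AddMonoidHom.id_apply]
      field_simp
      linear_combination w * φ w * h2) (fun _ _ => rfl)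
    let α : F →+ F := idh
    let β : F →+ F := (φ : F →+* F).toAddMonoidHom.comp sq
    have hfac : ∀ x, (x ^ 2 / root x) * φ (x ^ 2 / root x) = α x * β x := fun x => by
      rcases eq_or_ne x 0 with rfl | hx
      · simp
      have hk := hroot x
      have hs0 : root x ≠ 0 := fun e => hx (by rw [← hk, e, nrm_zero])
      change _ = x * φ (x ^ 2)
      rw [map_div₀, div_mul_div_comm]
      rw [show root x * φ (root x) = x from hk, map_pow]
      field_simp
    rcases sq_of_factor hadd (by simp [hr01]) α β rfl (by simp [β, sq]) hfac with e | e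
    · exfalso
      have hfix : ∀ x : F, x ^ 2 = x := fun x => by
        have := (e x).2
        change φ x = φ (x ^ 2) at this
        exact (φ.injective this).symm
      exact hnot hfix
    · intro x
      obtain ⟨y, rfl⟩ := φ.surjective x
      obtain ⟨z, rfl⟩ := φ.surjective y
      simp only [RingEquiv.symm_apply_apply]
      have := (e z).2
      change φ (φ (z ^ 2)) = z at this
      rw [← map_pow, ← map_pow, this]
  · -- `b = 1`
    refine Or.inl ⟨hb, ?_⟩
    let φh : F →+ F := (φ : F →+* F).toAddMonoidHom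
    have hadd := main φh (map_one φ) (fun w e => (map_eq_zero φ).1 e) (fun w hw hw1 => by
      have hz : 1 + w ≠ 0 := fun e => hw1 (by linear_combination e - h2)
      have hc : 1 + ((1 + w) / w)⁻¹ = (1 + w)⁻¹ := by
        rw [inv_div]; field_simp; linear_combination w * h2
      have hz' : 1 + φ w ≠ 0 := by
        rw [← map_one φ, ← map_add]; exact (map_ne_zero φ).2 hz
      rw [hc, nrm_inv φ (1 + w), inv_div, hb, CharTwo.add_self_eq_zero, mul_zero, add_zero, nrm,
        map_add, map_one]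
      change _ = 1 + φ w
      field_simp
      linear_combination w * h2) (fun x y => map_mul φ x y)
    let α : F →+ F := sq
    let β : F →+ F := φh
    have hfac : ∀ x, (x ^ 2 / root (φh x)) * φ (x ^ 2 / root (φh x)) = α x * β x := fun x => by
      rcases eq_or_ne x 0 with rfl | hx
      · simp
      have hx' : φ x ≠ 0 := (map_ne_zero φ).2 hx
      have hk := hroot (φh x)
      have hs0 : root (φh x) ≠ 0 := fun e => hx' (by
        rw [e, nrm_zero] at hk; exact hk.symm)
      rw [map_div₀, div_mul_div_comm, show root (φh x) * φ (root (φh x)) = φh x from hk]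
      change _ = x ^ 2 * φ x
      change x ^ 2 * φ (x ^ 2) / φ x = _
      rw [map_pow]
      field_simp
    rcases sq_of_factor hadd (by simp [φh, hr01]) α β (by simp [α, sq]) (map_one φ) hfac with e | e
    · exfalso
      have hfix : ∀ x : F, x ^ 2 = x := fun x => by
        have := (e x).2
        change φ (x ^ 2) = φ x at this
        exact φ.injective this
      exact hnot hfix
    · exact fun x => (e x).2

/-- The map is determined by `φ` and `b`. -/
theorem unique {κ' : F} {π' : F × F → F × F} (h' : Data φ b κ' π') {u : F × F} (hu : u ≠ 0) :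
    π u = π' u := by
  obtain ⟨x, y⟩ := u
  rcases eq_or_ne x 0 with rfl | hx
  · obtain ⟨ρ, hρ, rfl⟩ := h.exists_root_ne (fun e : y = 0 => hu (by rw [e]; rfl))
    rw [h.pi_zero' hρ, h'.pi_zero' hρ]
  have hco : coA π (y / nrm φ x) = coA π' (y / nrm φ x) ∧
      coB π (y / nrm φ x) = coB π' (y / nrm φ x) := by
    generalize y / nrm φ x = t
    obtain ⟨r, rfl⟩ : ∃ r, t = b + r := ⟨t - b, by ring⟩
    rcases eq_or_ne r 0 with rfl | hr
    · simp [coA, coB, h.fix, h'.fix]
    obtain ⟨ρ, hρ, rfl⟩ := h.exists_root_ne hr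
    rcases eq_or_ne ρ 1 with rfl | hρ1
    · simp [coA, coB, nrm_one, h.pi_one, h'.pi_one, h.kappa_eq, h'.kappa_eq]
    obtain ⟨σ, hσ⟩ := h.exists_root (nrm φ ρ + 1)
    obtain ⟨n1, a1, n2, b1⟩ := h.solution hρ hρ1 hσ
    obtain ⟨-, a2, -, b2⟩ := h'.solution hρ hρ1 hσ
    have hA := mul_left_cancel₀ n1 (a1.trans a2.symm)
    refine ⟨hA, mul_left_cancel₀ n2 ?_⟩
    have r1 := (h.recursion hρ).1
    have r2 := (h'.recursion hρ).1
    have hA' := mul_left_cancel₀ hρ (r1.trans ((congrArg (1 + ·) hA).trans r2.symm))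
    rw [b1, b2, hA, hA']
  rw [h.pi_eq hx, h'.pi_eq hx, hco.1, hco.2]

end Data

end Cfsg.Agent.SuzukiUnique
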