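import Cfsg.Agent.Lib.SuzukiTwo.TypeA
import Cfsg.Agent.Lib.SuzukiUnique.Identity

/-!
# Equivariant coordinates on a Suzuki 2-group of order `q ^ 2`

The type A coordinates, averaged over the acting group, turn it into a group of dilations
`(x, y) ↦ (c x, c φ(c) y)`.
-/

set_option autoImplicit false

namespace Cfsg.Agent.SuzukiUnique

open Cfsg.Agent.SuzukiTwo

/-- A function with the cocycle of type A extending a given additive map on the involutions. -/
theorem exists_cocycle {P : Type*} [Group P] [Finite P] {F : Type*} [Field F] [CharP F 2]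
    (φ : F →+* F) (ξ ζ : P → F) (hξmul : ∀ g h, ξ (g * h) = ξ g + ξ h)
    (hξ0 : ∀ g, ξ g = 0 ↔ g * g = 1) (hξsurj : Function.Surjective ξ)
    (hζmul : ∀ y z : P, y * y = 1 → z * z = 1 → ζ (y * z) = ζ y + ζ z)
    (hsq : ∀ g, ζ (g * g) = φ (ξ g) * ξ g) :
    ∃ ζ' : P → F, (∀ g h, ζ' (g * h) = ζ' g + ζ' h + φ (ξ g) * ξ h) ∧
      ∀ z, z * z = 1 → ζ' z = ζ z := by
  classical
  have hξ1 : ξ 1 = 0 := (hξ0 1).2 (one_mul 1)
  have hξinv : ∀ g, ξ g⁻¹ = ξ g := fun g => by
    have h := hξmul g⁻¹ g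
    rw [inv_mul_cancel, hξ1] at h
    exact CharTwo.add_eq_zero.1 h.symm
  have hξsq : ∀ g, ξ (g * g) = 0 := fun g => by rw [hξmul, CharTwo.add_self_eq_zero]
  have hζ1 : ζ 1 = 0 := by simpa using hζmul 1 1 (one_mul 1) (one_mul 1)
  let Γ : Subgroup (P × GL (Fin 3) F) :=
    { carrier := {p | ∃ y, p.2 = tA φ (ξ p.1) y}
      one_mem' := ⟨0, by rw [Prod.fst_one, hξ1, tA_zero, Prod.snd_one]⟩
      mul_mem' := by
        rintro a b ⟨y, hy⟩ ⟨y', hy'⟩
        exact ⟨_, by rw [Prod.snd_mul, hy, hy', tA_mul, ← hξmul, ← Prod.fst_mul]⟩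
      inv_mem' := by
        rintro a ⟨y, hy⟩
        refine ⟨-y + φ (ξ a.1) * ξ a.1, ?_⟩
        rw [Prod.snd_inv, Prod.fst_inv, hξinv, hy]
        refine inv_eq_of_mul_eq_one_right ?_
        rw [tA_mul, CharTwo.add_self_eq_zero, ← tA_zero φ]
        congr 1
        rw [add_neg_cancel_left, CharTwo.add_self_eq_zero] }
  let D : Subgroup (P × GL (Fin 3) F) :=
    { carrier := {p | p.1 * p.1 = 1 ∧ p.2 = tA φ 0 (ζ p.1)}
      one_mem' := ⟨by simp, by rw [Prod.fst_one, hζ1, tA_zero, Prod.snd_one]⟩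
      mul_mem' := by
        rintro a b ⟨ha, ha'⟩ ⟨hb, hb'⟩
        have h0 : ξ (a * b).1 = 0 := by
          rw [Prod.fst_mul, hξmul, (hξ0 _).2 ha, (hξ0 _).2 hb, add_zero]
        refine ⟨(hξ0 _).1 h0, ?_⟩
        rw [Prod.snd_mul, ha', hb', tA_mul, Prod.fst_mul, hζmul _ _ ha hb]
        simp
      inv_mem' := by
        rintro a ⟨ha, ha'⟩
        have e : a⁻¹.1 = a.1 := by rw [Prod.fst_inv]; exact inv_eq_of_mul_eq_one_right ha
        refine ⟨by rw [e]; exact ha, ?_⟩
        rw [e, Prod.snd_inv, ha']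
        refine inv_eq_of_mul_eq_one_right ?_
        rw [tA_mul, ← tA_zero φ]
        congr 1 <;> simp [CharTwo.add_self_eq_zero] }
  have hDΓ : D ≤ Γ := fun p hp => ⟨ζ p.1, by rw [hp.2, (hξ0 _).2 hp.1]⟩
  have hsqD : ∀ p ∈ Γ, p * p ∈ D := by
    rintro p ⟨y, hy⟩
    refine ⟨(hξ0 _).1 (by rw [Prod.fst_mul]; exact hξsq _), ?_⟩
    rw [Prod.snd_mul, hy, tA_mul, Prod.fst_mul, hsq, CharTwo.add_self_eq_zero,
      CharTwo.add_self_eq_zero, zero_add]
  have hsep : ∀ t, ((1 : P), t) ∈ D → t = 1 := by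
    rintro t ⟨-, ht⟩
    simpa [hζ1, tA_zero] using ht
  have : Finite F := Finite.of_surjective ξ hξsurj
  obtain ⟨Λ, hΛmax⟩ := (Set.toFinite {Λ : Subgroup (P × GL (Fin 3) F) |
      D ≤ Λ ∧ Λ ≤ Γ ∧ ∀ t, ((1 : P), t) ∈ Λ → t = 1}).exists_maximal ⟨D, le_rfl, hDΓ, hsep⟩
  obtain ⟨hDΛ, hΛΓ, hΛsep⟩ := hΛmax.1
  have hproj : ∀ g, ∃ t, (g, t) ∈ Λ := by
    intro g
    by_contra hg
    set e : P × GL (Fin 3) F := (g, tA φ (ξ g) 0) with he
    have heΓ : e ∈ Γ := ⟨0, rfl⟩
    have hcmm : ∀ a ∈ Γ, ∀ b ∈ Γ, cm a b ∈ Λ := by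
      intro a ha b hb
      rw [cm_eq_squares]
      have h2 : b⁻¹ * (a * a)⁻¹ * b = b⁻¹ * a⁻¹ * b * (b⁻¹ * a⁻¹ * b) := by simp [mul_assoc]
      refine mul_mem (mul_mem (hDΛ (hsqD _ (mul_mem ha hb))) ?_) (hDΛ (hsqD _ (inv_mem hb)))
      rw [h2]
      exact hDΛ (hsqD _ (mul_mem (mul_mem (inv_mem hb) (inv_mem ha)) hb))
    have hconj : ∀ a ∈ Γ, ∀ x ∈ Λ, a * x * a⁻¹ ∈ Λ := fun a ha x hx => by
      have := mul_mem (hcmm a ha x (hΛΓ hx)) hx
      rwa [cm, inv_mul_cancel_right] at this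
    have hee : e * e ∈ Λ := hDΛ (hsqD e heΓ)
    let Λ' : Subgroup (P × GL (Fin 3) F) :=
      { carrier := {x | x ∈ Λ ∨ e * x ∈ Λ}
        one_mem' := Or.inl (one_mem Λ)
        mul_mem' := by
          rintro a b (ha | ha) (hb | hb)
          · exact Or.inl (mul_mem ha hb)
          · refine Or.inr ?_
            rw [show e * (a * b) = e * a * e⁻¹ * (e * b) by simp [mul_assoc]]
            exact mul_mem (hconj e heΓ a ha) hb
          · refine Or.inr ?_
            rw [← mul_assoc]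
            exact mul_mem ha hb
          · refine Or.inl ?_
            rw [show a * b = e⁻¹ * (e * a) * e⁻¹⁻¹ * (e * e)⁻¹ * (e * b) by simp [mul_assoc]]
            exact mul_mem (mul_mem (hconj _ (inv_mem heΓ) _ ha) (inv_mem hee)) hb
        inv_mem' := by
          rintro a (ha | ha)
          · exact Or.inl (inv_mem ha)
          · refine Or.inr ?_
            rw [show e * a⁻¹ = e * (e * a)⁻¹ * e⁻¹ * (e * e) by simp [mul_assoc]]
            exact mul_mem (hconj e heΓ _ (inv_mem ha)) hee }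
    have hΛ' : Λ' ≤ Λ := by
      refine hΛmax.2 ⟨fun x hx => Or.inl (hDΛ hx), ?_, ?_⟩ fun x hx => Or.inl hx
      · rintro x (hx | hx)
        · exact hΛΓ hx
        · simpa using mul_mem (inv_mem heΓ) (hΛΓ hx)
      · rintro t (ht | ht)
        · exact hΛsep t ht
        · exact absurd ⟨_, by simpa [he] using ht⟩ hg
    exact hg ⟨_, hΛ' (show e ∈ Λ' from Or.inr hee)⟩
  choose θ hθ using hproj
  have huniq : ∀ g t, (g, t) ∈ Λ → t = θ g := by
    intro g t ht
    have := hΛsep ((θ g)⁻¹ * t) (by simpa using mul_mem (inv_mem (hθ g)) ht)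
    exact (inv_mul_eq_one.1 this).symm
  choose y hy using fun g => (show ∃ y, θ g = tA φ (ξ g) y from hΛΓ (hθ g))
  refine ⟨y, fun g h => ?_, fun z hz => ?_⟩
  · have h1 : θ g * θ h = θ (g * h) := huniq _ _ (mul_mem (hθ g) (hθ h))
    rw [hy g, hy h, tA_mul, hy (g * h)] at h1
    exact (tA_inj φ h1).2.symm
  · have h1 := huniq z _ (hDΛ (show (z, tA φ 0 (ζ z)) ∈ D from ⟨hz, rfl⟩))
    rw [hy z] at h1
    exact (tA_inj φ h1).2.symm

/-- Coordinates on a Suzuki 2-group of order `q ^ 2` in which `K` acts by dilations. -/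
theorem exists_coords {P : Type*} [Group P] [Finite P] {K : Subgroup (MulAut P)} (hS : SuzukiTwo.Sz P K)
    (hcard : Nat.card P = Nat.card (invSub P) ^ 2) :
    ∃ (F : Type) (_ : Field F) (_ : Fintype F) (_ : CharP F 2) (φ : F ≃+* F)
      (ξ ζ : P → F) (μ : K →* Fˣ),
      Fintype.card F = Nat.card (invSub P) ∧ Function.Injective (nrm φ) ∧ Function.Bijective μ ∧
        Function.Bijective (fun g => (ξ g, ζ g)) ∧ (∀ g h, ξ (g * h) = ξ g + ξ h) ∧
        (∀ g h, ζ (g * h) = ζ g + ζ h + φ (ξ g) * ξ h) ∧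
        (∀ (k : K) g, ξ ((k : MulAut P) g) = μ k * ξ g) ∧
        ∀ (k : K) g, ζ ((k : MulAut P) g) = nrm φ (μ k) * ζ g := by
  classical
  obtain ⟨m, hm, hZ, ⟨Co⟩⟩ := hS.exists_coord
  let Z := invSub P
  have hZn : Z.Normal := hS.invSub_normal
  let _ : CommGroup (P ⧸ Z) :=
    { (inferInstance : Group (P ⧸ Z)) with
      mul_comm := fun a b => QuotientGroup.induction_on a fun x => QuotientGroup.induction_on b
        fun y => (QuotientGroup.eq.2 (by
          rw [show (x * y)⁻¹ * (y * x) = cm y⁻¹ x⁻¹ by simp [cm, mul_assoc]]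
          exact hS.cm_mem_invSub _ _) :) }
  let W := Additive (P ⧸ Z)
  have hW : Nat.card W = 2 ^ m := by
    have h := Z.card_mul_index
    rw [hcard, hZ, pow_two] at h
    rw [Nat.card_congr (Additive.toMul (α := P ⧸ Z))]
    exact Nat.eq_of_mul_eq_mul_left (by positivity) h
  let f : K → (P ⧸ Z →* P ⧸ Z) := fun k =>
    QuotientGroup.map Z Z ((k : MulAut P) : P →* P) fun x hx => hS.kinv_invSub k x hx
  let φW : K →* AddMonoid.End W :=
    { toFun := fun k => MonoidHom.toAdditive (f k)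
      map_one' := AddMonoidHom.ext fun w => by
        obtain ⟨x, rfl⟩ := QuotientGroup.mk_surjective (Additive.toMul w)
        rfl
      map_mul' := fun k l => AddMonoidHom.ext fun w => by
        obtain ⟨x, rfl⟩ := QuotientGroup.mk_surjective (Additive.toMul w)
        rfl }
  have hφW : ∀ (k : K) (x : P),
      φW k (Additive.ofMul (x : P ⧸ Z)) = Additive.ofMul (((k : MulAut P) x : P) : P ⧸ Z) :=
    fun _ _ => rfl
  have hzero : ∀ x : P, Additive.ofMul (x : P ⧸ Z) = (0 : W) ↔ x * x = 1 := fun x => by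
    rw [← hS.mem_invSub]
    exact (QuotientGroup.eq_one_iff x)
  have hcyc := hS.cyc
  have hK : Nat.card K = 2 ^ m - 1 := by
    rw [Nat.card_congr (Equiv.ofBijective _ Co.lam_bij), Nat.card_units,
      GaloisField.card 2 m (by omega)]
  have hrepr : ∀ w : W, ∃ x : P, Additive.ofMul (x : P ⧸ Z) = w := fun w =>
    QuotientGroup.mk_surjective (Additive.toMul w)
  have hfree : ∀ (k l : K) (x : P), ¬x * x = 1 →
      φW k (Additive.ofMul (x : P ⧸ Z)) = φW l (Additive.ofMul (x : P ⧸ Z)) → k = l := by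
    intro k l x hx h
    by_contra hne
    have e1 : ∀ w : W, φW l⁻¹ (φW k w) = φW (l⁻¹ * k) w := fun w => by rw [map_mul]; rfl
    have e2 : φW l⁻¹ (φW l (Additive.ofMul (x : P ⧸ Z))) = Additive.ofMul (x : P ⧸ Z) := by
      rw [show φW l⁻¹ (φW l (Additive.ofMul (x : P ⧸ Z))) = (φW l⁻¹ * φW l) _ from rfl, ← map_mul,
        inv_mul_cancel, map_one]
      rfl
    have h'' : φW (l⁻¹ * k) (Additive.ofMul (x : P ⧸ Z)) = Additive.ofMul (x : P ⧸ Z) := by
      rw [← e1, h, e2]
    rw [hφW] at h''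
    refine hx (hS.mem_invSub.1 (hS.mem_of_diff hS.kinv_invSub (k := l⁻¹ * k) ?_ ?_))
    · simpa [inv_mul_eq_one, eq_comm] using hne
    · exact QuotientGroup.eq.1 (congrArg Additive.toMul h'').symm
  obtain ⟨m', -, hm', ι', μ, hμ, hι'⟩ := exists_field_coord φW
    (fun w => by
      obtain ⟨x, rfl⟩ := hrepr w
      rw [← ofMul_mul, ← QuotientGroup.mk_mul]
      exact (hzero _).2 (pow_four_eq_one hS x))
    (by
      let _ := Fintype.ofFinite W
      have h4 : 2 < Fintype.card W := by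
        rw [← Nat.card_eq_fintype_card, hW]
        have := Nat.pow_le_pow_right (show 0 < 2 by norm_num) hm
        omega
      obtain ⟨a, b, c, hab, hac, hbc⟩ := Fintype.two_lt_card_iff.1 h4
      by_cases ha : a = 0
      · exact ⟨b, c, fun e => hab (ha.trans e.symm), fun e => hac (ha.trans e.symm), hbc⟩
      · by_cases hb : b = 0
        · exact ⟨a, c, ha, fun e => hbc (hb.trans e.symm), hac⟩
        · exact ⟨a, b, ha, hb, hab⟩)
    (fun a b ha hb => by
      obtain ⟨x, rfl⟩ := hrepr a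
      have hx : ¬x * x = 1 := fun h => ha ((hzero x).2 h)
      let T : K → {w : W // w ≠ 0} := fun k => ⟨φW k (Additive.ofMul (x : P ⧸ Z)), fun h => hx (by
        rw [hφW, hzero, ← map_mul] at h
        exact (k : MulAut P).injective (h.trans (map_one _).symm))⟩
      have hT : Function.Injective T := fun k l h => hfree k l x hx (congrArg Subtype.val h)
      have hbij : Function.Bijective T := hT.bijective_of_nat_card_le (le_of_eq (by
        let _ := Fintype.ofFinite W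
        rw [hK, Nat.card_eq_fintype_card, Fintype.card_subtype_compl, Fintype.card_subtype_eq,
          ← Nat.card_eq_fintype_card, hW]))
      obtain ⟨k, hk⟩ := hbij.2 ⟨b, hb⟩
      exact ⟨k, congrArg Subtype.val hk, fun l hl =>
        hbij.1 ((Subtype.ext hl : T l = ⟨b, hb⟩).trans hk.symm)⟩)
  obtain rfl : m' = m := Nat.pow_right_injective le_rfl (hm'.symm.trans hW)
  let _ := Fintype.ofFinite (GaloisField 2 m')
  let ξ : P → GaloisField 2 m' := fun g => ι' (Additive.ofMul (g : P ⧸ Z))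
  have hξmul : ∀ g h, ξ (g * h) = ξ g + ξ h := fun g h => by
    simp only [ξ, QuotientGroup.mk_mul, ofMul_mul, map_add]
  have hξ0 : ∀ g, ξ g = 0 ↔ g * g = 1 := fun g => by
    simp only [ξ]
    rw [EmbeddingLike.map_eq_zero_iff, hzero]
  have hξsurj : Function.Surjective ξ := fun c => by
    obtain ⟨x, hx⟩ := hrepr (ι'.symm c)
    exact ⟨x, by simp only [ξ, hx, AddEquiv.apply_symm_apply]⟩
  have hξk : ∀ (k : K) g, ξ ((k : MulAut P) g) = μ k * ξ g := fun k g => by
    simp only [ξ, ← hφW, hι']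
  choose s hs using hξsurj
  let Q : GaloisField 2 m' → GaloisField 2 m' := fun x => Co.toF (s x * s x)
  have hQ : ∀ g, Q (ξ g) = Co.toF (g * g) := by
    intro g
    set z := g⁻¹ * s (ξ g) with hz'
    have hzz : z * z = 1 := (hξ0 z).1 (by
      have h := hξmul g z
      rw [hz', mul_inv_cancel_left, hs] at h
      rw [hz']
      exact left_eq_add.1 h)
    change Co.toF _ = _
    rw [show s (ξ g) = g * z by simp [hz'], show g * z * (g * z) = g * (z * g) * z by
      simp [mul_assoc], ← hS.commute hzz g, show g * (g * z) * z = g * g * (z * z) by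
      simp [mul_assoc], hzz, mul_one]
  have hQk : ∀ k x, Q (μ k * x) = Co.lam k * Q x := by
    intro k x
    conv_lhs => rw [← hs x, ← hξk, hQ, ← map_mul, Co.toF_smul k (pow_four_eq_one hS _)]
  have hc : Q 1 ≠ 0 := by
    intro h
    have := (hξ0 (s 1)).2 ((Co.toF_eq_zero (pow_four_eq_one hS _)).1 h)
    rw [hs] at this
    exact one_ne_zero this
  let e := MulEquiv.ofBijective μ hμ
  let α : (GaloisField 2 m')ˣ →* GaloisField 2 m' :=
    (Units.coeHom _).comp (Co.lam.comp e.symm.toMonoidHom)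
  have hα : ∀ u : (GaloisField 2 m')ˣ, Q u = Q 1 * α u := by
    intro u
    have h1 : μ (e.symm u) = u := e.apply_symm_apply u
    conv_lhs => rw [← mul_one (u : GaloisField 2 m'), ← h1, hQk, mul_comm]
    rfl
  have hαinj : ∀ u, α u = 1 → u = 1 := by
    intro u h
    have h' : Co.lam (e.symm u) = 1 := Units.ext h
    rw [← map_one Co.lam] at h'
    rw [← e.apply_symm_apply u, Co.lam_bij.1 h', map_one]
  have hquad : ∀ x y z, Q (x + y + z) + Q (x + y) + Q (x + z) + Q (y + z) + Q x + Q y + Q z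
      = 0 := by
    intro x y z
    have hsum : ∀ u v, Q (ξ u + ξ v) = Q (ξ u) + Q (ξ v) + Co.toF (cm u⁻¹ v) := fun u v => by
      rw [← hξmul, hQ, hQ, hQ, hS.toF_sq_mul Co]
    obtain ⟨g, rfl⟩ : ∃ g, ξ g = x := ⟨_, hs x⟩
    obtain ⟨h, rfl⟩ : ∃ h, ξ h = y := ⟨_, hs y⟩
    obtain ⟨l, rfl⟩ : ∃ l, ξ l = z := ⟨_, hs z⟩
    rw [← hξmul g h, hsum (g * h) l, hξmul, hsum g h, hsum g l, hsum h l, mul_inv_rev,
      hS.toF_cm_mul_left Co]
    ring_nf
    simp [CharTwo.two_eq_zero, show (4 : GaloisField 2 m') = 2 * 2 by norm_num]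
  obtain ⟨S, cc, hS'⟩ := Cfsg.Agent.S1168.result Q hquad
  let χ : (GaloisField 2 m' ≃+* GaloisField 2 m') × (GaloisField 2 m' ≃+* GaloisField 2 m') →
      (GaloisField 2 m')ˣ →* GaloisField 2 m' := fun p =>
    { toFun := fun u => p.1 u * p.2 u
      map_one' := by simp
      map_mul' := fun u v => by simp only [Units.val_mul, map_mul]; ring }
  obtain ⟨⟨σ, τ⟩, hστ⟩ := eq_of_combination α χ S (Q 1) cc hc fun u => by
    rw [← hα, hS' u]
    rfl
  have hαv : ∀ u : (GaloisField 2 m')ˣ, α u = σ u * τ u := fun u => by rw [hστ]; rfl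
  let φ : GaloisField 2 m' ≃+* GaloisField 2 m' := τ.trans σ.symm
  have hQ0 : Q 0 = 0 := by
    have h := hQ 1
    rwa [(hξ0 1).2 (one_mul 1), one_mul, Co.toF_one] at h
  have hQf : ∀ x, Q x = Q 1 * σ (x * φ x) := by
    intro x
    by_cases hx : x = 0
    · subst hx; simp [hQ0]
    · have := hα (Units.mk0 x hx)
      rw [hαv] at this
      simpa [φ] using this
  have hlam : ∀ k : K, σ.symm (Co.lam k : GaloisField 2 m') = nrm φ (μ k) := by
    intro k
    have h1 : α (μ k) = (Co.lam k : GaloisField 2 m') := by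
      show ((Co.lam (e.symm (μ k)) : (GaloisField 2 m')ˣ) : GaloisField 2 m') = _
      rw [show e.symm (μ k) = k from e.symm_apply_apply k]
    rw [← h1, hαv, map_mul, RingEquiv.symm_apply_apply]
    rfl
  set ζ0 : P → GaloisField 2 m' := fun z => σ.symm (Co.toF z / Q 1) with hζ0def
  have hζ0k : ∀ (k : K) z, z * z = 1 → ζ0 ((k : MulAut P) z) = nrm φ (μ k) * ζ0 z := by
    intro k z hz
    simp only [hζ0def]
    rw [Co.toF_smul k hz, mul_div_assoc, map_mul, hlam]
  obtain ⟨ζ1, hζ1, hζ10⟩ := exists_cocycle (φ : GaloisField 2 m' →+* GaloisField 2 m') ξ ζ0 hξmul hξ0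
    (fun c => ⟨s c, hs c⟩)
    (fun y z hy hz => by simp only [hζ0def]; rw [Co.toF_mul hy hz, add_div, map_add])
    (fun g => by
      simp only [hζ0def]
      rw [← hQ, hQf, mul_div_cancel_left₀ _ hc, RingEquiv.symm_apply_apply, mul_comm]
      rfl)
  let _ := Fintype.ofFinite K
  have hodd : (Fintype.card K : GaloisField 2 m') = 1 := by
    have h0 : ((2 ^ m' : ℕ) : GaloisField 2 m') = 0 := by
      rw [CharP.cast_eq_zero_iff (GaloisField 2 m') 2]
      exact dvd_pow_self 2 (by omega)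
    rw [← Nat.card_eq_fintype_card, hK, Nat.cast_sub Nat.one_le_two_pow, h0, zero_sub,
      Nat.cast_one, CharTwo.neg_eq]
  set n : K → GaloisField 2 m' := fun k => nrm φ (μ k) with hn
  have hn0 : ∀ k, n k ≠ 0 := fun k => mt nrm_eq_zero.1 (μ k).ne_zero
  have hnmul : ∀ k l, n (k * l) = n k * n l := fun k l => by
    simp only [hn, map_mul, Units.val_mul, nrm_mul]
  set ζ : P → GaloisField 2 m' := fun g => ∑ k : K, (n k)⁻¹ * ζ1 ((k : MulAut P) g) with hζ
  have hcoc : ∀ g h, ζ (g * h) = ζ g + ζ h + φ (ξ g) * ξ h := by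
    intro g h
    have h1 : ∀ k : K, (n k)⁻¹ * ζ1 ((k : MulAut P) (g * h)) =
        (n k)⁻¹ * ζ1 ((k : MulAut P) g) + (n k)⁻¹ * ζ1 ((k : MulAut P) h) + φ (ξ g) * ξ h := by
      intro k
      rw [map_mul, hζ1, hξk, hξk, RingEquiv.coe_toRingHom, map_mul φ]
      have := hn0 k
      simp only [hn, nrm] at this ⊢
      field_simp
    simp only [hζ]
    rw [Finset.sum_congr rfl fun k _ => h1 k, Finset.sum_add_distrib, Finset.sum_add_distrib,
      Finset.sum_const, Finset.card_univ, nsmul_eq_mul, hodd, one_mul]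
  have hζinv : ∀ z, z * z = 1 → ζ z = ζ0 z := by
    intro z hz
    simp only [hζ]
    have hz' : ∀ k : K, (k : MulAut P) z * (k : MulAut P) z = 1 := fun k => by
      rw [← map_mul, hz, map_one]
    rw [Finset.sum_congr rfl fun (k : K) _ => show (n k)⁻¹ * ζ1 ((k : MulAut P) z) = ζ0 z by
      rw [hζ10 _ (hz' k), hζ0k k z hz]; simp only [hn]; rw [inv_mul_cancel_left₀ (hn0 k)],
      Finset.sum_const, Finset.card_univ, nsmul_eq_mul, hodd, one_mul]
  have hequiv : ∀ (l : K) g, ζ ((l : MulAut P) g) = n l * ζ g := by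
    intro l g
    simp only [hζ]
    rw [Finset.mul_sum]
    refine Fintype.sum_equiv (Equiv.mulRight l) _ _ fun k => ?_
    have h1 : ((k * l : K) : MulAut P) g = (k : MulAut P) ((l : MulAut P) g) := rfl
    rw [Equiv.coe_mulRight, h1, hnmul]
    have hl := hn0 l
    have hk := hn0 k
    field_simp
  refine ⟨GaloisField 2 m', inferInstance, inferInstance, inferInstance, φ, ξ, ζ, μ, ?_, ?_, hμ,
    ?_, hξmul, hcoc, hξk, hequiv⟩
  · rw [← Nat.card_eq_fintype_card, GaloisField.card 2 m' (by omega), hZ]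
  · intro x y hxy
    rcases eq_or_ne y 0 with rfl | hy
    · rwa [nrm_zero, nrm_eq_zero] at hxy
    have hyn : nrm φ y ≠ 0 := mt nrm_eq_zero.1 hy
    have h1 : nrm φ (x / y) = 1 := by
      rw [div_eq_mul_inv, nrm_mul, nrm_inv, hxy, mul_inv_cancel₀ hyn]
    have hxy0 : x / y ≠ 0 := fun e => zero_ne_one (α := GaloisField 2 m') (by
      rw [← h1, e, nrm_zero])
    have h2 := hα (Units.mk0 _ hxy0)
    rw [Units.val_mk0, hQf, show (x / y) * φ (x / y) = 1 from h1, map_one] at h2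
    have h3 := congrArg Units.val (hαinj _ (mul_left_cancel₀ hc h2).symm)
    simpa [div_eq_one_iff_eq hy] using h3
  · let _ := Fintype.ofFinite P
    rw [Nat.bijective_iff_injective_and_card]
    refine ⟨fun g h hgh => ?_, by rw [hcard, Nat.card_prod, GaloisField.card 2 m' (by omega), hZ, pow_two]⟩
    obtain ⟨e1, e2⟩ := Prod.mk.inj hgh
    obtain ⟨z, rfl⟩ : ∃ z, g = h * z := ⟨h⁻¹ * g, (mul_inv_cancel_left h g).symm⟩
    have hz : ξ z = 0 := by rwa [hξmul, add_eq_left] at e1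
    rw [hcoc, hz, mul_zero, add_zero, add_eq_left, hζinv z ((hξ0 z).1 hz)] at e2
    simp only [hζ0def] at e2
    rw [EmbeddingLike.map_eq_zero_iff, div_eq_zero_iff] at e2
    rw [(Co.toF_eq_zero ((hξ0 z).1 hz)).1 (e2.resolve_right hc), mul_one]

end Cfsg.Agent.SuzukiUnique
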