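import Cfsg.Agent.Lib.ZassenhausSuzuki.Main
import Cfsg.Agent.Lib.SuzukiUnique.Coords

/-!
# The frame of a simple Zassenhaus group with non-abelian kernel of 2-power order

A swap `w` of the two base points inverts the two-point stabiliser, fixes `u₀ b`, and satisfies
`w z₁ w = u₀⁻¹ w u₀` for an involution `z₁` of the kernel.
-/

set_option autoImplicit false
set_option linter.unusedSectionVars false
set_option linter.style.haveILetI false

namespace Cfsg.Agent.SuzukiUnique

open MulAction Cfsg.Agent.ZassenhausOdd Cfsg.Agent.ZassenhausFeit Cfsg.Agent.SuzukiTwo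

universe u v

/-- What is needed from the group to build a chart. -/
structure Frame (G : Type u) (Ω : Type v) [Group G] [MulAction G Ω] where
  /-- the point fixed by the kernel -/
  a : Ω
  /-- the second base point -/
  b : Ω
  /-- the kernel -/
  U : Subgroup G
  /-- the two-point stabiliser -/
  E : Subgroup G
  /-- conjugation -/
  ρ : E →* MulAut U
  conj : ∀ (e : E) (u : U), ((ρ e u : U) : G) = e * u * (e : G)⁻¹
  e_a : ∀ e : E, (e : G) • a = a
  e_b : ∀ e : E, (e : G) • b = b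
  u_a : ∀ u : U, (u : G) • a = a
  ub_ne : ∀ u : U, (u : G) • b ≠ a
  reg : ∀ c : Ω, c ≠ a → ∃! u : U, (u : G) • b = c
  /-- the swap -/
  w : G
  w_sq : w * w = 1
  w_a : w • a = b
  inverts : ∀ e : E, w * e = (e : G)⁻¹ * w
  /-- the swap on the kernel -/
  π : U → U
  π_ne : ∀ u : U, u ≠ 1 → π u ≠ 1
  π_spec : ∀ u : U, u ≠ 1 → w • (u : G) • b = (π u : G) • b
  /-- the kernel element of the fixed point of `w` -/
  u₀ : U
  /-- the involution attached to it -/
  z₁ : U
  u₀_sq : u₀ * u₀ ≠ 1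
  π_u₀ : π u₀ = u₀
  z₁_ne : z₁ ≠ 1
  z₁_sq : z₁ * z₁ = 1
  π_z₁ : π z₁ = u₀⁻¹
  rel : w * z₁ * w = (u₀ : G)⁻¹ * w * u₀
  gen : Subgroup.closure ((U : Set G) ∪ E ∪ {w}) = ⊤

/-- The frame exists, together with the Suzuki 2-group structure of its kernel. -/
theorem exists_frame {G : Type u} {Ω : Type v} [Group G] [Fintype G]
    [MulAction G Ω] [Fintype Ω] [IsSimpleGroup G] (hZ : Cfsg.IsZassenhausGroup G Ω) {a b : Ω}
    (hab : a ≠ b) {U : Subgroup G} (hUa : U ≤ stabilizer G a)
    (hUcard : Nat.card U + 1 = Fintype.card Ω)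
    (hUfix : ∀ u ∈ U, u ≠ 1 → ∀ c : Ω, u • c = c → c = a) (hU2 : IsPGroup 2 U)
    (hnab : ∃ u v : U, u * v ≠ v * u) :
    ∃ (m : ℕ) (Fr : Frame G Ω), 1 ≤ m ∧ Function.Injective Fr.ρ ∧ SuzukiTwo.Sz Fr.U Fr.ρ.range ∧
      Nat.card (invSub Fr.U) = 2 ^ (2 * m + 1) ∧ Nat.card Fr.U = Nat.card (invSub Fr.U) ^ 2 := by
  classical
  obtain ⟨n, hnodd, hn1, hΩ, hcyc, hEcard, hSuz, hcenter, hGcard⟩ :=
    ZassenhausSuzuki.structure_of_nonabelian_two hZ hab hUa hUcard hUfix hU2 hnab
  haveI := hZ.1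
  set E := twoStab G a b with hEdef
  have hs := setup_of_zassenhaus hZ hab hUa hUcard hUfix
  set ρ := conjAct hs with hρdef
  have hfree := free_conjAct hs
  have hfix_inj : ∀ z : U, z ≠ 1 → ∀ g g' : E, ρ g z = ρ g' z → g = g' := by
    intro z hz g g' h
    by_contra hne
    refine hfree (g'⁻¹ * g) (fun e => hne (inv_mul_eq_one.1 e).symm) z hz ?_
    rw [map_mul ρ, MulAut.mul_apply, h, ← MulAut.mul_apply, ← map_mul ρ, inv_mul_cancel, map_one]
    exact IsConj.refl _
  obtain ⟨-, K0, hS0⟩ := SuzukiTwo.exists_sz hSuz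
  have hinvSub : Nat.card (invSub U) = 2 ^ n := by rw [← hS0.center_eq, hcenter]
  obtain ⟨z, -, -, hz1, hz2, -, -⟩ := hS0.two
  have hρinj : Function.Injective ρ := fun g g' h => hfix_inj z hz1 g g' (by rw [h])
  have hEodd : Odd (Nat.card E) := by
    rw [hEcard]
    exact Nat.Even.sub_odd Nat.one_le_two_pow ((Nat.even_pow).2 ⟨even_two, by omega⟩) odd_one
  have hodd : ∀ c d : Ω, c ≠ d → Odd (Nat.card (twoStab G c d)) := fun c d h => by
    rw [card_twoStab_eq hZ hab h]; exact hEodd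
  have hK : SuzukiTwo.Sz U ρ.range := by
    refine ⟨hU2, hnab, hS0.two,
      isCyclic_of_surjective ρ.rangeRestrict ρ.rangeRestrict_surjective, fun x y hx1 hx hy1 hy => ?_⟩
    let T : E → {u : U // u * u = 1 ∧ u ≠ 1} := fun g =>
      ⟨ρ g x, by rw [← map_mul, hx, map_one], fun h => hx1 ((map_eq_one_iff _ (ρ g).injective).1 h)⟩
    have hT : Function.Injective T := fun g g' h => hfix_inj x hx1 g g' (congrArg Subtype.val h)
    letI := Fintype.ofFinite U
    letI := Fintype.ofFinite E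
    have hbij : Function.Bijective T := hT.bijective_of_nat_card_le (le_of_eq (by
      have h1 : Nat.card {u : U // u * u = 1} = 2 ^ n := by
        rw [← hcenter]
        exact Nat.card_congr (Equiv.subtypeEquivRight fun u => hS0.mem_center_iff_sq.symm)
      rw [Nat.card_eq_fintype_card, Fintype.card_subtype] at h1
      rw [hEcard, Nat.card_eq_fintype_card, Fintype.card_subtype, ← h1,
        show (Finset.univ.filter fun u : U => u * u = 1 ∧ u ≠ 1) =
          (Finset.univ.filter fun u : U => u * u = 1).erase 1 by ext u; simp [and_comm],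
        Finset.card_erase_of_mem (by simp)]))
    obtain ⟨g, hg⟩ := hbij.2 ⟨y, hy, hy1⟩
    have hg' : ρ g x = y := congrArg Subtype.val hg
    refine ⟨⟨ρ g, g, rfl⟩, hg', ?_⟩
    rintro ⟨-, g', rfl⟩ h'
    have h'' : ρ g' x = y := h'
    exact Subtype.ext (congrArg ρ (hfix_inj x hx1 g' g (h''.trans hg'.symm)))
  -- basic facts about points
  have huA : ∀ u : U, (u : G) • a = a := fun u => hUa u.2
  have hne : ∀ u : U, (u : G) • b ≠ a := fun u h =>
    hab.symm (smul_left_cancel (u : G) (h.trans (huA u).symm))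
  have huinj : ∀ u v : U, (u : G) • b = (v : G) • b → u = v := by
    intro u v h
    by_contra hne'
    have h1 : (v : G)⁻¹ * u ≠ 1 := fun e => hne' (Subtype.ext (inv_mul_eq_one.1 e).symm)
    exact hab.symm (hUfix _ (U.mul_mem (U.inv_mem v.2) u.2) h1 b
      (by rw [mul_smul, h, inv_smul_smul]))
  have hreg : ∀ c : Ω, c ≠ a → ∃! u : U, (u : G) • b = c := fun c hc => by
    obtain ⟨u, hu, hub⟩ := exists_kernel_smul hZ hab hUa hUcard hUfix hc
    exact ⟨⟨u, hu⟩, hub, fun v hv => huinj _ _ (hv.trans hub.symm)⟩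
  -- the swap
  obtain ⟨w, hwo, hwa, hwb⟩ := Perm.Zass.exists_swap hZ hab
  have hw2 : w * w = 1 := Perm.Zass.sq_eq_one_of_order hwo
  have hwinv : w⁻¹ = w := inv_eq_of_mul_eq_one_right hw2
  have hww : ∀ x : Ω, w • w • x = x := Perm.Zass.smul_smul_of_sq hw2
  obtain ⟨c, hc⟩ : ∃ c : Ω, w • c = c := by
    by_contra h
    have h1 : (Finset.univ.filter fun x : Ω => w • x = x) = ∅ :=
      Finset.filter_eq_empty_iff.2 fun x _ hx => h ⟨x, hx⟩
    have h2 := (Perm.Zass.card_fixed_parity (Ω := Ω) hw2).1 (by rw [h1]; simp)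
    rw [hΩ, Nat.even_add_one] at h2
    exact h2 ((Nat.even_pow).2 ⟨even_two, by omega⟩)
  have hwuniq : ∀ d, w • d = d → d = c := fun d hd => involution_fix_unique hZ hodd hwo hd hc
  have hca : c ≠ a := fun e => hab (by rw [e, hwa] at hc; exact hc.symm)
  obtain ⟨u₀, hu₀, -⟩ := hreg c hca
  have hu₀1 : u₀ ≠ 1 := fun e => hab (by
    rw [e, Subgroup.coe_one, one_smul] at hu₀
    rw [← hu₀, hwb] at hc; exact hc)
  -- `w` inverts `E`
  have hcomm : ∀ x y : E, x * y = y * x := by
    letI : CommGroup E := hcyc.commGroup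
    exact fun x y => mul_comm x y
  have hinv : ∀ e : E, w * e = (e : G)⁻¹ * w := by
    intro e
    have he' : w * e * w ∈ E := ⟨show (w * e * w) • a = a by
        rw [mul_smul, mul_smul, hwa, (mem_twoStab.1 e.2).2, hwb],
      show (w * e * w) • b = b by rw [mul_smul, mul_smul, hwb, (mem_twoStab.1 e.2).1, hwa]⟩
    set t : G := e * (w * e * w) with ht
    have htE : t ∈ E := E.mul_mem e.2 he'
    have htw : w * t = t * w := by
      have hc' : (w * e * w) * (e : G) = e * (w * e * w) :=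
        congrArg Subtype.val (hcomm ⟨_, he'⟩ e)
      calc w * t = (w * e * w) * e * w := by rw [ht]; group
        _ = t * w := by rw [hc', ht]
    have htc : t • c = c := hwuniq _ (by rw [← mul_smul, htw, mul_smul, hc])
    have hcb : c ≠ b := fun h => hab (by rw [h, hwb] at hc; exact hc)
    have ht1 := Perm.Zass.eq_one_of_three hZ hab hcb.symm hca.symm (mem_twoStab.1 htE).1
      (mem_twoStab.1 htE).2 htc
    calc w * e = (e : G)⁻¹ * t * w := by rw [ht]; simp [mul_assoc, hw2]
      _ = (e : G)⁻¹ * w := by rw [ht1, mul_one]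
  -- the swap on the kernel
  have hπex : ∀ u : U, ∃ v : U, u ≠ 1 → w • (u : G) • b = (v : G) • b := by
    intro u
    by_cases hu : u = 1
    · exact ⟨1, fun h => absurd hu h⟩
    · have : w • (u : G) • b ≠ a := fun h => hu (huinj u 1 (by
        have h2 := congrArg (w • ·) h
        simp only [hww, hwa] at h2
        rw [Subgroup.coe_one, one_smul]
        exact h2))
      obtain ⟨v, hv, -⟩ := hreg _ this
      exact ⟨v, fun _ => hv.symm⟩
  choose π hπ using hπex
  have hπne : ∀ u : U, u ≠ 1 → π u ≠ 1 := fun u hu h => hne u (by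
    rw [← hww ((u : G) • b), hπ u hu, h, Subgroup.coe_one, one_smul, hwb])
  have hπu₀ : π u₀ = u₀ := huinj _ _ (by rw [← hπ u₀ hu₀1, hu₀, hc])
  have hconj : ∀ (e : E) (u : U), ((ρ e u : U) : G) = e * u * (e : G)⁻¹ := fun e u =>
    conjAct_coe hs e u
  have hρb : ∀ (e : E) (u : U), ((ρ e u : U) : G) • b = (e : G) • (u : G) • b := by
    intro e u
    rw [hconj, mul_smul, mul_smul, inv_smul_eq_iff.2 (mem_twoStab.1 e.2).2.symm]
  have hπρ : ∀ (e : E) (u : U), u ≠ 1 → π (ρ e u) = ρ e⁻¹ (π u) := by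
    intro e u hu
    refine huinj _ _ ?_
    rw [← hπ _ (fun h => hu ((map_eq_one_iff _ (ρ e).injective).1 h)), hρb, hρb, ← hπ u hu,
      ← mul_smul, hinv, mul_smul, Subgroup.coe_inv]
  -- `u₀` is no involution
  have hu₀sq : u₀ * u₀ ≠ 1 := by
    intro h
    have huu : (u₀ : G) * u₀ = 1 := congrArg Subtype.val h
    have hu₀' : (u₀ : G) ≠ 1 := fun e => hu₀1 (Subtype.ext e)
    set s : G := u₀ * w * u₀ with hsdef
    have hs2 : s * s = 1 := by
      rw [hsdef, show (u₀ : G) * w * u₀ * (u₀ * w * u₀) = u₀ * (w * ((u₀ * u₀) * w)) * u₀ by group,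
        huu, one_mul, hw2, mul_one, huu]
    have hsb : s • b = b := by
      rw [hsdef, mul_smul, mul_smul, hu₀, hc, ← hu₀, ← mul_smul, huu, one_smul]
    have hsne : s ≠ 1 := fun e => hab (by
      have : s • a = (u₀ : G) • b := by rw [hsdef, mul_smul, mul_smul, huA, hwa]
      rw [e, one_smul, hu₀] at this
      exact absurd this.symm hca)
    have hv : w * s * w ∈ U := by
      refine mem_kernel_of_fix_only hZ hUa hUcard hUfix
        (by rw [mul_smul, mul_smul, hwa, hsb, hwb]) fun d hd => ?_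
      have h1 : s • (w • d) = w • d := by
        rw [mul_smul, mul_smul] at hd
        conv_rhs => rw [← hd, hww]
      have := involution_fix_unique hZ hodd (orderOf_eq_prime (by rw [pow_two, hs2]) hsne) h1 hsb
      rw [← hww d, this, hwb]
    have hvu : (⟨_, hv⟩ : U) = u₀ := huinj _ _ (by
      show (w * s * w) • b = (u₀ : G) • b
      rw [hsdef, mul_smul, mul_smul, hwb, mul_smul, mul_smul, huA, hwa, hu₀, hc])
    have hval : w * s * w = (u₀ : G) := congrArg Subtype.val hvu
    have h3 : (w * (u₀ : G)) ^ 3 = 1 := by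
      have h4 : (u₀ : G) * w * u₀ = w * u₀ * w := by
        rw [← hsdef]
        conv_rhs => rw [← hval]
        simp [← mul_assoc, hw2, mul_assoc _ w w]
      calc (w * (u₀ : G)) ^ 3 = w * ((u₀ : G) * w * u₀) * (w * u₀) := by
            simp [pow_succ, mul_assoc]
        _ = (w * w) * u₀ * (w * w) * u₀ := by rw [h4]; group
        _ = 1 := by rw [hw2, one_mul, mul_one, huu]
    have hne1 : w * (u₀ : G) ≠ 1 := fun e => hab (by
      have : w = (u₀ : G) := by rw [← hwinv]; exact inv_eq_of_mul_eq_one_right e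
      rw [this, huA] at hwa; exact hwa)
    haveI : Fact (Nat.Prime 3) := ⟨Nat.prime_three⟩
    have h3G : 3 ∣ Nat.card G := orderOf_eq_prime h3 hne1 ▸ orderOf_dvd_natCard _
    rw [hGcard] at h3G
    obtain ⟨k, hk⟩ := hnodd
    have hq : 2 ^ n % 3 = 2 := by
      rw [hk, pow_succ, pow_mul, Nat.mul_mod, Nat.pow_mod]; norm_num
    have h1 : (2 ^ n - 1) % 3 = 1 := by omega
    have := Nat.mod_eq_zero_of_dvd h3G
    simp [Nat.mul_mod, Nat.pow_mod, Nat.add_mod, hq, h1] at this
  -- involutions of the kernel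
  have hlift : ∀ z : U, z ≠ 1 → z * z = 1 → ∃ l : E, π z = ρ l u₀⁻¹ ∧
      ((π z : G))⁻¹ * (w * z * w) * π z = l * w * (l : G)⁻¹ := by
    intro z hz1 hz
    have hzz : (z : G) * z = 1 := congrArg Subtype.val hz
    set g : G := w * z * w with hgdef
    set x : G := (π z : G) with hxdef
    have hg2 : g * g = 1 := by
      rw [hgdef]; simp [← mul_assoc, mul_assoc _ w w, hw2, mul_assoc _ (z : G) z, hzz]
    have hgne : g ≠ 1 := fun e => hz1 (Subtype.ext (by
      have := congrArg (fun t => w * t * w) e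
      simpa [hgdef, ← mul_assoc, hw2, mul_assoc _ w w] using this))
    have hgb : g • b = b := by rw [hgdef, mul_smul, mul_smul, hwb, huA, hwa]
    have hga : g • a = x • b := by rw [hgdef, mul_smul, mul_smul, hwa, hπ z hz1]
    set y : G := x⁻¹ * g * x with hydef
    have hy2 : y * y = 1 := by
      rw [hydef, show x⁻¹ * g * x * (x⁻¹ * g * x) = x⁻¹ * (g * g) * x by group, hg2]; group
    have hya : y • a = b := by
      rw [hydef, mul_smul, mul_smul, show x • a = a from huA _, hga, inv_smul_smul]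
    have hyb : y • b = a := by rw [← hya, ← mul_smul, hy2, one_smul]
    have hk : y * w ∈ E := ⟨show (y * w) • a = a by rw [mul_smul, hwa, hyb],
      show (y * w) • b = b by rw [mul_smul, hwb, hya]⟩
    obtain ⟨l, hl⟩ : ∃ l : E, l * l = ⟨y * w, hk⟩ := by
      obtain ⟨j, hj⟩ := hEodd
      refine ⟨(⟨y * w, hk⟩ : E) ^ (j + 1), ?_⟩
      rw [← pow_add, show j + 1 + (j + 1) = Nat.card E + 1 by omega, pow_succ, pow_card_eq_one',
        one_mul]
    have hl' : (l : G) * l = y * w := congrArg Subtype.val hl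
    have hy : y = l * w * (l : G)⁻¹ := by
      calc y = y * w * w := by rw [mul_assoc, hw2, mul_one]
        _ = (l : G) * (l * w) := by rw [← hl', mul_assoc]
        _ = l * w * (l : G)⁻¹ := by
          have := hinv l⁻¹
          rw [Subgroup.coe_inv, inv_inv] at this
          rw [mul_assoc (l : G) w, this]
    refine ⟨l, ?_, by rw [← hy]⟩
    have hyne : y ≠ 1 := fun e => hab (by rw [e, one_smul] at hya; exact hya)
    have hfix1 : y • (x⁻¹ • b) = x⁻¹ • b := by
      rw [hydef, mul_smul, mul_smul, smul_inv_smul, hgb]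
    have hfix2 : y • ((ρ l u₀ : U) : G) • b = ((ρ l u₀ : U) : G) • b := by
      rw [hρb, hy, mul_smul, mul_smul, inv_smul_smul, hu₀, hc]
    have := involution_fix_unique hZ hodd (orderOf_eq_prime (by rw [pow_two, hy2]) hyne)
      hfix1 hfix2
    have hx : (π z)⁻¹ = ρ l u₀ := huinj _ _ (by rw [Subgroup.coe_inv]; exact this)
    rw [map_inv, ← hx, inv_inv]
  obtain ⟨l, hl, -⟩ := hlift z hz1 hz2
  set z₁ : U := ρ l z with hz₁def
  have hz₁ne : z₁ ≠ 1 := fun h => hz1 ((map_eq_one_iff _ (ρ l).injective).1 h)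
  have hz₁sq : z₁ * z₁ = 1 := by rw [hz₁def, ← map_mul, hz2, map_one]
  have hπz₁ : π z₁ = u₀⁻¹ := by
    rw [hz₁def, hπρ l z hz1, hl, ← MulAut.mul_apply, ← map_mul, inv_mul_cancel, map_one,
      MulAut.one_apply]
  have hrel : w * z₁ * w = (u₀ : G)⁻¹ * w * u₀ := by
    obtain ⟨l', hl', hy⟩ := hlift z₁ hz₁ne hz₁sq
    rw [hπz₁] at hl' hy
    have h1 : l' = 1 := hfix_inj u₀⁻¹ (inv_ne_one.2 hu₀1) l' 1 (by
      rw [map_one, MulAut.one_apply]; exact hl'.symm)
    rw [h1] at hy
    simp only [Subgroup.coe_inv, inv_inv, Subgroup.coe_one, one_mul, inv_one, mul_one] at hy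
    calc w * z₁ * w = (u₀ : G)⁻¹ * ((u₀ : G) * (w * z₁ * w) * (u₀ : G)⁻¹) * u₀ := by group
      _ = _ := by rw [hy]
  have hgen : Subgroup.closure ((U : Set G) ∪ E ∪ {w}) = ⊤ := by
    set L := Subgroup.closure ((U : Set G) ∪ E ∪ {w})
    have hstab : ∀ g : G, g • a = a → g ∈ L := by
      intro g hg
      obtain ⟨u, hu, -⟩ := hreg (g • b) fun h => hab.symm (smul_left_cancel g (h.trans hg.symm))
      have he : (u : G)⁻¹ * g ∈ E :=
        ⟨show ((u : G)⁻¹ * g) • a = a by rw [mul_smul, hg, inv_smul_eq_iff, huA],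
          show ((u : G)⁻¹ * g) • b = b by rw [mul_smul, inv_smul_eq_iff, hu]⟩
      rw [← mul_inv_cancel_left (u : G) g]
      exact mul_mem (Subgroup.subset_closure (Or.inl (Or.inl u.2)))
        (Subgroup.subset_closure (Or.inl (Or.inr he)))
    rw [eq_top_iff]
    intro g _
    by_cases hg : g • a = a
    · exact hstab g hg
    obtain ⟨u, hu, -⟩ := hreg _ hg
    rw [← mul_inv_cancel_left ((u : G) * w) g]
    refine mul_mem (mul_mem (Subgroup.subset_closure (Or.inl (Or.inl u.2)))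
      (Subgroup.subset_closure (Or.inr rfl))) (hstab _ ?_)
    rw [mul_smul, inv_smul_eq_iff, ← hu, mul_smul, hwa]
  obtain ⟨m, hm⟩ := hnodd
  refine ⟨m,
    { a := a, b := b, U := U, E := E, ρ := ρ, conj := hconj
      e_a := fun e => (mem_twoStab.1 e.2).1, e_b := fun e => (mem_twoStab.1 e.2).2
      u_a := huA, ub_ne := hne, reg := hreg, w := w, w_sq := hw2, w_a := hwa, inverts := hinv
      π := π, π_ne := hπne, π_spec := hπ, u₀ := u₀, z₁ := z₁, u₀_sq := hu₀sq, π_u₀ := hπu₀
      z₁_ne := hz₁ne, z₁_sq := hz₁sq, π_z₁ := hπz₁, rel := hrel, gen := hgen },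
    by omega, hρinj, hK, by rw [← hm]; exact hinvSub, ?_⟩
  show Nat.card U = Nat.card (invSub U) ^ 2
  rw [hinvSub, ← pow_mul, mul_comm n 2]
  omega

end Cfsg.Agent.SuzukiUnique
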